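import Cfsg.Agent.Lib.D4Schur.Roots

/-!
Torus elements of the twisted group of type D4 as powers of a generator of the multiplicative group,
and the commutator of the two long simple classes.
-/

set_option autoImplicit false
set_option linter.unusedSectionVars false

namespace CfsgLib.D4Schur

open Cfsg.Lie CfsgLib.Chev CfsgLib.Chevalley CfsgLib.Twisted CfsgLib.Twisted.D4 CfsgLib.ReeF4Schur
open scoped commutatorElement

/-- The norm exponent. -/
abbrev nE (q : ℕ) : ℤ := 1 + (q : ℤ) + (q : ℤ) ^ 2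

/-- The exponent of the character of a class. -/
def expo (q : ℕ) (a m : ℤ) : Fin 6 → ℤ :=
  ![2 * (m * nE q) - nE q * a, 2 * a - m * nE q, m * nE q + a - q * a - (q : ℤ) ^ 2 * a,
    a + (q : ℤ) ^ 2 * a - q * a, nE q * a - m * nE q, m * nE q]

variable {K : Type*} [Field K] [Fintype K] (φ : K ≃+* K) {q : ℕ} (hq : IsPrimePow q)
  (hK : Fintype.card K = q ^ 3) (hφ : ∀ x, φ x = x ^ q)

/-- A generator of the multiplicative group. -/
noncomputable def gen0 : Kˣ := (IsCyclic.exists_generator (α := Kˣ)).choose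

theorem gen0_spec (x : Kˣ) : x ∈ Subgroup.zpowers (gen0 (K := K)) :=
  (IsCyclic.exists_generator (α := Kˣ)).choose_spec x

include hq hK in
theorem gen0_zpow_eq_one (e : ℤ) :
    (gen0 (K := K)) ^ e = 1 ↔ ((q : ℤ) - 1) * nE q ∣ e := by
  classical
  have h : orderOf (gen0 (K := K)) = q ^ 3 - 1 := by
    rw [orderOf_eq_card_of_forall_mem_zpowers gen0_spec, Nat.card_eq_fintype_card,
      Fintype.card_units, hK]
  rw [← orderOf_dvd_iff_zpow_eq_one, h]
  have h1 : 1 ≤ q ^ 3 := Nat.one_le_pow _ _ hq.pos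
  push_cast [Nat.cast_sub h1]
  rw [show (q : ℤ) ^ 3 - 1 = ((q : ℤ) - 1) * nE q by ring]

include hφ in
theorem units_frob (x : Kˣ) : Units.map φ.toRingHom.toMonoidHom x = x ^ q :=
  Units.ext (by rw [Units.val_pow_eq_pow_val]; exact hφ x)

include hq hK hφ in
theorem gen0_fixed (m : ℤ) :
    φ (((gen0 (K := K)) ^ (m * nE q) : Kˣ) : K) = ((gen0 (K := K)) ^ (m * nE q) : Kˣ) := by
  rw [hφ, ← Units.val_pow_eq_pow_val, ← zpow_natCast, ← zpow_mul]
  congr 1
  rw [← mul_inv_eq_one, ← zpow_neg, ← zpow_add, gen0_zpow_eq_one hq hK]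
  exact ⟨m, by ring⟩

/-- The torus element with exponents `a`, `m`. -/
noncomputable def tz (a m : ℤ) : Gp φ :=
  tor φ hK hφ ((gen0 (K := K)) ^ a) ((gen0 (K := K)) ^ (m * nE q)) (gen0_fixed φ hq hK hφ m)

theorem tz_mem (a m : ℤ) : tz φ hq hK hφ a m ∈ Tor φ := tor_mem φ hK hφ _ _ _

include hφ in
theorem chiC_zpow (i : Fin 6) (a m : ℤ) :
    chiC φ i ((gen0 (K := K)) ^ a) ((gen0 (K := K)) ^ (m * nE q)) =
      (gen0 (K := K)) ^ expo q a m i := by
  simp only [chiC, cpar, Fin.prod_univ_four, units_frob φ hφ, ← zpow_natCast, ← zpow_mul]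
  fin_cases i <;> simp [expo] <;> simp only [← zpow_natCast, ← zpow_neg, ← zpow_mul, ← zpow_add] <;> congr 1 <;> push_cast [nE] <;> ring

include hq hK hφ

theorem tz_conj (i : Fin 6) (a m : ℤ) {u : K} (hu : IsPar sym φ (cls i) u) :
    ∃ h, tz φ hq hK hφ a m * xe φ i u hu * (tz φ hq hK hφ a m)⁻¹ =
      xe φ i ((((gen0 (K := K)) ^ expo q a m i : Kˣ) : K) * u) h := by
  have := tor_conj φ hK hφ i ((gen0 (K := K)) ^ a) ((gen0 (K := K)) ^ (m * nE q))
    (gen0_fixed φ hq hK hφ m) hu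
  rwa [chiC_zpow φ hφ i a m] at this

theorem tz_fpf (i : Fin 6) {a m : ℤ} (h : ¬ ((q : ℤ) - 1) * nE q ∣ expo q a m i) :
    Fpf (tz φ hq hK hφ a m) (Xc φ i) :=
  tor_fpf φ hK hφ i _ _ _ (by rwa [chiC_zpow φ hφ i a m, Ne, gen0_zpow_eq_one hq hK])

theorem tz_centralises (i : Fin 6) {a m : ℤ} (h : ((q : ℤ) - 1) * nE q ∣ expo q a m i) :
    ∀ x ∈ Xc φ i, x * tz φ hq hK hφ a m = tz φ hq hK hφ a m * x :=
  tor_centralises φ hK hφ i _ _ _ (by rwa [chiC_zpow φ hφ i a m, gen0_zpow_eq_one hq hK])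

/-- Every scalar is the character of the short simple class at some torus element. -/
theorem exists_scale {k : K} (hk : k ≠ 0) : ∃ a m : ℤ,
    (((gen0 (K := K)) ^ expo q a m 1 : Kˣ) : K) = k := by
  obtain ⟨n, hn⟩ := Subgroup.mem_zpowers_iff.1 (gen0_spec (Units.mk0 k hk))
  rcases Int.even_or_odd n with ⟨c, hc⟩ | ⟨c, hc⟩
  · exact ⟨c, 0, by rw [show expo q c 0 1 = n by simp [expo]; omega, hn]; rfl⟩
  · obtain ⟨d, hd⟩ : Odd (nE q) := by
      rcases Nat.even_or_odd q with ⟨j, hj⟩ | ⟨j, hj⟩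
      · exact ⟨j + 2 * (j : ℤ) ^ 2, by rw [nE, hj]; push_cast; ring⟩
      · exact ⟨3 * (j : ℤ) + 2 * (j : ℤ) ^ 2 + 1, by rw [nE, hj]; push_cast; ring⟩
    refine ⟨c + d + 1, 1, ?_⟩
    rw [show expo q (c + d + 1) 1 1 = n by simp [expo]; omega, hn]; rfl

omit hq hK hφ in
/-- Every element of the highest class is a commutator of the two other long classes. -/
theorem top_comm {x : Gp φ} (hx : x ∈ Xc φ 5) :
    ∃ y ∈ Xc φ 4, ∃ z ∈ Xc φ 0, x = ⁅y, z⁆ := by
  obtain ⟨v, hv, rfl⟩ := exists_xe φ hx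
  have hc := CfsgLib.Chev.D4.checked
  obtain ⟨ha, hb, hne, hne', o14, o22, o23, hterm⟩ : 14 < chevD4.nroots ∧ 22 < chevD4.nroots ∧
      (22 : ℕ) ≠ 14 ∧ (22 : ℕ) ≠ chevD4.neg 14 ∧ sym.olen 14 = 1 ∧ sym.olen 22 = 1 ∧
      sym.olen 23 = 1 ∧ chevD4.commTerms 14 22 = [(23, 1, 1, 1)] := by decide +kernel
  have h1 : ∀ r (t : K), sym.olen r = 1 → orbX sym_test φ r t = elX chevD4 K r t := fun r t h => by
    rw [orbX, h, orbProd_one]
  have hv' : φ v = v := by
    have := hv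
    rwa [IsPar, show cls 5 = 23 from rfl, o23, Function.iterate_one] at this
  have hy : IsPar sym φ (cls 4) (-v) := by
    rw [IsPar, show cls 4 = 22 from rfl, o22, Function.iterate_one, map_neg, hv']
  have hz : IsPar sym φ (cls 0) 1 := isPar_one φ _
  refine ⟨xe φ 4 (-v) hy, xe_mem φ 4 _ _, xe φ 0 1 hz, xe_mem φ 0 _ _, Subtype.ext ?_⟩
  rw [show ((⁅xe φ 4 (-v) hy, xe φ 0 1 hz⁆ : Gp φ) : GL chevD4.Idx K) =
      ⁅orbX sym_test φ (cls 4) (-v), orbX sym_test φ (cls 0) 1⁆ from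
    map_commutatorElement (twistGrp sym_test φ).subtype _ _]
  show orbX sym_test φ (cls 5) v = _
  rw [show cls 5 = 23 from rfl, show cls 4 = 22 from rfl, show cls 0 = 14 from rfl, h1 _ _ o23,
    h1 _ _ o22, h1 _ _ o14]
  have hx' := elX_comm hc comm_one (F := K) ha hb hne hne' (-1) v
  rw [ChevalleyDatum.commWord, hterm, wordGL] at hx'
  simp only [List.map_cons, List.map_nil, List.prod_cons, List.prod_nil, mul_one, pow_one,
    neg_neg, Int.cast_one, one_mul] at hx'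
  rw [commutatorElement_def, elX_inv hc K hb, elX_inv hc K ha, neg_neg,
    mul_assoc _ (elX chevD4 K 22 v) (elX chevD4 K 14 (-1)), hx']
  have e1 : elX chevD4 K 22 (-v) = (elX chevD4 K 22 v)⁻¹ := (elX_inv hc K hb v).symm
  have e2 : elX chevD4 K 14 1 = (elX chevD4 K 14 (-1))⁻¹ := by rw [elX_inv hc K ha, neg_neg]
  rw [e1, e2]
  group

end CfsgLib.D4Schur
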