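import Cfsg.Agent.Lib.Twisted.FixedU

/-!
Commutators in the height filtration of the positive unipotent subgroup, and injectivity of the
orbit products at representatives.
-/

set_option autoImplicit false
set_option linter.unusedSectionVars false

namespace CfsgLib.D4Schur

open Cfsg.Lie CfsgLib.Chev CfsgLib.Chevalley CfsgLib.Twisted
open scoped commutatorElement

variable {D : ChevalleyDatum} {T : Tabs} {K : Type*} [Field K]

variable (hc : Checked D T) (hcomm : CommOne D T) (hH : HtPos D T)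
include hc hcomm hH

theorem elX_normalises_highU {r : ℕ} (hr : r < D.nroots) (hrp : D.nroots / 2 ≤ r) (t : K) {m : ℤ}
    {g : GL D.Idx K} (hg : g ∈ highU D T K m) :
    elX D K r t * g * (elX D K r t)⁻¹ ∈ highU D T K m := by
  refine (Subgroup.mem_normalizer_iff.1 (elX_mem_normalizer hc hcomm hr (P := highSet D T m)
    (fun s hs hP _ => ⟨fun e => ?_, fun v hv => ⟨?_, ?_⟩⟩) t) g).1 hg
  · have := hP.1
    have := neg_eq hc hr
    have := nroots_eq_two_mul hc
    omega
  · exact (closedPos_pos hc).2 r s v hr hs hrp hP.1 hv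
  · obtain ⟨-, i, j, hi, hj, e⟩ := hv
    have e1 := hH r hr hrp
    have e2 := hH s hs hP.1
    have e3 : hgt D T v = (i : ℤ) * hgt D T r + (j : ℤ) * hgt D T s := by
      simp only [hgt, e, htLin_add, htLin_smul]
    have hi' : (1 : ℤ) ≤ (i : ℤ) := by exact_mod_cast hi
    have hj' : (1 : ℤ) ≤ (j : ℤ) := by exact_mod_cast hj
    have := hP.2
    nlinarith

theorem posU_normalises_highU {x : GL D.Idx K} (hx : x ∈ highU D T K 1) {m : ℤ}
    {g : GL D.Idx K} (hg : g ∈ highU D T K m) : x * g * x⁻¹ ∈ highU D T K m := by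
  induction hx using Subgroup.closure_induction'' generalizing g with
  | mem x hx =>
    obtain ⟨r, t, hr, hP, rfl⟩ := hx
    exact elX_normalises_highU hc hcomm hH hr hP.1 t hg
  | inv_mem x hx =>
    obtain ⟨r, t, hr, hP, rfl⟩ := hx
    rw [elX_inv hc K hr]
    exact elX_normalises_highU hc hcomm hH hr hP.1 (-t) hg
  | one => simpa using hg
  | mul x y _ _ h1 h2 =>
    rw [show x * y * g * (x * y)⁻¹ = x * (y * g * y⁻¹) * x⁻¹ by group]
    exact h1 (h2 hg)

theorem comm_gen {h k : ℤ} {r s : ℕ} (hr : r < D.nroots) (hs : s < D.nroots)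
    (hrP : highSet D T h r) (hsP : highSet D T k s) (t u : K) :
    ⁅elX D K r t, elX D K s u⁆ ∈ highU D T K (h + k) := by
  by_cases hsr : s = r
  · subst hsr
    rw [commutatorElement_eq_one_iff_mul_comm.2 (by rw [elX_add hc K hs, elX_add hc K hs, add_comm])]
    exact one_mem _
  have hneg : s ≠ D.neg r := fun e => by
    have := hsP.1
    have := hrP.1
    have := neg_eq hc hr
    have := nroots_eq_two_mul hc
    omega
  rw [commutatorElement_def, elX_conj_elX hc hcomm hr hs hsr hneg]
  refine posU_normalises_highU hc hcomm hH (elX_mem_highU hc hs hsP.1 (hH s hs hsP.1) u) ?_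
  refine wordGL_mem hc hr hs (fun v hv => ⟨?_, ?_⟩) _ _
  · exact (closedPos_pos hc).2 r s v hr hs hrP.1 hsP.1 hv
  · obtain ⟨-, i, j, hi, hj, e⟩ := hv
    have e1 := hH r hr hrP.1
    have e2 := hH s hs hsP.1
    have e3 : hgt D T v = (i : ℤ) * hgt D T r + (j : ℤ) * hgt D T s := by
      simp only [hgt, e, htLin_add, htLin_smul]
    have hi' : (1 : ℤ) ≤ (i : ℤ) := by exact_mod_cast hi
    have hj' : (1 : ℤ) ≤ (j : ℤ) := by exact_mod_cast hj
    have := hrP.2
    have := hsP.2
    nlinarith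

/-- The commutator of two terms of the filtration lies in the term at the sum. -/
theorem comm_highU {h k : ℤ} (h1 : 1 ≤ h) (k1 : 1 ≤ k) {x y : GL D.Idx K}
    (hx : x ∈ highU D T K h) (hy : y ∈ highU D T K k) : ⁅x, y⁆ ∈ highU D T K (h + k) := by
  have hxU : ∀ {z}, z ∈ highU D T K h → z ∈ highU D T K 1 := fun hz => highU_mono hc h1 hz
  have hyU : ∀ {z}, z ∈ highU D T K k → z ∈ highU D T K 1 := fun hz => highU_mono hc k1 hz
  have cj : ∀ {a g : GL D.Idx K}, a ∈ highU D T K 1 → g ∈ highU D T K (h + k) →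
      a * g * a⁻¹ ∈ highU D T K (h + k) := fun ha hg => posU_normalises_highU hc hcomm hH ha hg
  induction hx using Subgroup.closure_induction generalizing y with
  | mem x hx =>
    obtain ⟨r, t, hr, hP, rfl⟩ := hx
    induction hy using Subgroup.closure_induction with
    | mem y hy =>
      obtain ⟨s, u, hs, hQ, rfl⟩ := hy
      exact comm_gen hc hcomm hH hr hs hP hQ t u
    | one => simp
    | mul y z hy _ h1 h2 =>
      rw [show ⁅elX D K r t, y * z⁆ = ⁅elX D K r t, y⁆ * (y * ⁅elX D K r t, z⁆ * y⁻¹) by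
        simp only [commutatorElement_def]; group]
      exact mul_mem h1 (cj (hyU hy) h2)
    | inv y hy h1 =>
      rw [show ⁅elX D K r t, y⁻¹⁆ = y⁻¹ * ⁅elX D K r t, y⁆⁻¹ * y⁻¹⁻¹ by
        simp only [commutatorElement_def]; group]
      exact cj (inv_mem (hyU hy)) (inv_mem h1)
  | one => simp
  | mul a b ha _ ih1 ih2 =>
    rw [show ⁅a * b, y⁆ = a * ⁅b, y⁆ * a⁻¹ * ⁅a, y⁆ by simp only [commutatorElement_def]; group]
    exact mul_mem (cj (hxU ha) (ih2 hy)) (ih1 hy)
  | inv a ha ih =>
    rw [show ⁅a⁻¹, y⁆ = a⁻¹ * ⁅a, y⁆⁻¹ * a⁻¹⁻¹ by simp only [commutatorElement_def]; group]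
    exact cj (inv_mem (hxU ha)) (inv_mem (ih hy))

variable {S : TwistSym D} (hS : S.test = true) (hO : S.orbitTest T = true) (φ : K ≃+* K)
include hS hO

/-- Orbit products at a representative determine their parameter. -/
theorem orbX_inj {r : ℕ} (hr : r ∈ S.repList) {t u : K}
    (e : orbX hS φ r t = orbX hS φ r u) : t = u := by
  obtain ⟨hrn, hrp⟩ := mem_repList hr
  have h1 : orbX hS φ r (t + -u) = 1 := by
    rw [← orbX_add hc hS φ hrn, e, orbX_add hc hS φ hrn, add_neg_cancel, orbX_zero hc hS φ hrn]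
  obtain ⟨j, hj⟩ := exists_cv_ne_zero hc K hrn
  have hk : 0 < S.olen r := by
    unfold TwistSym.olen
    split_ifs
    · exact one_pos
    · exact TwistSym.d_pos hS
  have h2 := lead_orbX hc hS hO φ hr rfl hr hk (s := r) rfl rfl (t + -u) j
  rw [h1, lead_one hc hrn, if_pos rfl] at h2
  have h3 : (cv T r j : K) * (t + -u) = 0 := by
    simpa [TwistSym.sgnIter] using h2.symm
  linear_combination (mul_eq_zero.1 h3).resolve_left hj

end CfsgLib.D4Schur
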