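import Cfsg.Agent.Lib.D4Schur.Short

/-!
The twisted groups of type D4 over fields of order at least `3 ^ 3`: a section over the positive
unipotent subgroup.
-/

set_option autoImplicit false
set_option linter.unusedSectionVars false

namespace CfsgLib.D4Schur

open Cfsg.Lie CfsgLib.Chev CfsgLib.Chevalley CfsgLib.Twisted CfsgLib.Twisted.D4 CfsgLib.ReeF4Schur
open scoped commutatorElement

variable {q : ℕ} (hq3 : 3 ≤ q)
include hq3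

theorem dvd_iff_small {e k r : ℤ} (he : e = k * (((q : ℤ) - 1) * nE q) + r) :
    ((q : ℤ) - 1) * nE q ∣ e ↔ ((q : ℤ) - 1) * nE q ∣ r := by
  subst he
  exact (Int.dvd_add_right (Dvd.intro_left k rfl))

theorem not_dvd_small {r : ℤ} (h0 : 0 < r) (h1 : r < ((q : ℤ) - 1) * nE q) :
    ¬ ((q : ℤ) - 1) * nE q ∣ r := fun h => by
  have := Int.le_of_dvd h0 h
  omega

theorem norm_bounds : 0 < nE q ∧ nE q < ((q : ℤ) - 1) * nE q ∧
    2 * ((q : ℤ) - 1) < ((q : ℤ) - 1) * nE q ∧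
    2 * (q : ℤ) * ((q : ℤ) - 1) < ((q : ℤ) - 1) * nE q := by
  have h : (3 : ℤ) ≤ q := by exact_mod_cast hq3
  have h2 : (0 : ℤ) ≤ (q : ℤ) ^ 2 := sq_nonneg _
  refine ⟨?_, ?_, ?_, ?_⟩ <;> simp only [nE] <;> nlinarith

/-- The torus exponents and their values at the classes. -/
theorem expo_facts :
    (∀ i : Fin 6, i = 1 ∨ i = 2 ∨ i = 3 →
      ¬ ((q : ℤ) - 1) * nE q ∣ expo q ((q : ℤ) - 1) 0 i) ∧
    (∀ i : Fin 6, i = 0 ∨ i = 4 ∨ i = 5 →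
      ((q : ℤ) - 1) * nE q ∣ expo q ((q : ℤ) - 1) 0 i) ∧
    (((q : ℤ) - 1) * nE q ∣ expo q 2 1 0 ∧
      ∀ i : Fin 6, i = 4 ∨ i = 5 → ¬ ((q : ℤ) - 1) * nE q ∣ expo q 2 1 i) ∧
    (((q : ℤ) - 1) * nE q ∣ expo q (nE q) 2 1 ∧
      ∀ i : Fin 6, i = 2 ∨ i = 3 ∨ i = 4 → ¬ ((q : ℤ) - 1) * nE q ∣ expo q (nE q) 2 i) ∧
    (((q : ℤ) - 1) * nE q ∣ expo q (nE q) 1 2 ∧
      ∀ i : Fin 6, i = 3 ∨ i = 5 → ¬ ((q : ℤ) - 1) * nE q ∣ expo q (nE q) 1 i) ∧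
    (((q : ℤ) - 1) * nE q ∣ expo q 0 1 3 ∧
      ∀ i : Fin 6, i = 4 ∨ i = 5 → ¬ ((q : ℤ) - 1) * nE q ∣ expo q 0 1 i) ∧
    (((q : ℤ) - 1) * nE q ∣ expo q 1 0 5 ∧
      ∀ i : Fin 6, i = 0 ∨ i = 4 → ¬ ((q : ℤ) - 1) * nE q ∣ expo q 1 0 i) := by
  obtain ⟨n0, n1, n2, n3⟩ := norm_bounds hq3
  have hq' : (0 : ℤ) < (q : ℤ) - 1 := by omega
  have hq0 : (0 : ℤ) < q := by omega
  have neg : ∀ {r : ℤ}, 0 < r → r < ((q : ℤ) - 1) * nE q → ¬ ((q : ℤ) - 1) * nE q ∣ -r :=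
    fun h h' e => not_dvd_small hq3 h h' (Int.dvd_neg.1 e)
  have hN : ¬ ((q : ℤ) - 1) * nE q ∣ nE q := not_dvd_small hq3 n0 n1
  have hN' : ¬ ((q : ℤ) - 1) * nE q ∣ -nE q := neg n0 n1
  refine ⟨?_, ?_, ⟨?_, ?_⟩, ⟨?_, ?_⟩, ⟨?_, ?_⟩, ⟨?_, ?_⟩, ⟨?_, ?_⟩⟩
  · rintro i (rfl | rfl | rfl)
    · rw [dvd_iff_small hq3 (k := 0) (r := 2 * ((q : ℤ) - 1)) (by simp [expo])]
      exact not_dvd_small hq3 (by omega) n2
    · rw [dvd_iff_small hq3 (k := -1) (r := 2 * ((q : ℤ) - 1)) (by simp [expo, nE]; ring)]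
      exact not_dvd_small hq3 (by omega) n2
    · rw [dvd_iff_small hq3 (k := 1) (r := -(2 * (q : ℤ) * ((q : ℤ) - 1)))
        (by simp [expo, nE]; ring)]
      exact neg (by positivity) n3
  · rintro i (rfl | rfl | rfl)
    · exact ⟨-1, by simp [expo, nE]; ring⟩
    · exact ⟨1, by simp [expo, nE]; ring⟩
    · exact ⟨0, by simp [expo]⟩
  · exact ⟨0, by simp [expo]; ring⟩
  · rintro i (rfl | rfl) <;>
      rw [dvd_iff_small hq3 (k := 0) (r := nE q) (by simp [expo]; try ring)] <;> exact hN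
  · exact ⟨0, by simp [expo]⟩
  · rintro i (rfl | rfl | rfl)
    · rw [dvd_iff_small hq3 (k := -((q : ℤ) + 2)) (r := nE q) (by simp [expo, nE]; ring)]
      exact hN
    · rw [dvd_iff_small hq3 (k := (q : ℤ)) (r := nE q) (by simp [expo, nE]; ring)]
      exact hN
    · rw [dvd_iff_small hq3 (k := (q : ℤ) + 2) (r := nE q) (by simp [expo, nE]; ring)]
      exact hN
  · exact ⟨-((q : ℤ) + 2), by simp [expo, nE]; ring⟩
  · rintro i (rfl | rfl)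
    · rw [dvd_iff_small hq3 (k := (q : ℤ)) (r := nE q) (by simp [expo, nE]; ring)]
      exact hN
    · rw [dvd_iff_small hq3 (k := 0) (r := nE q) (by simp [expo])]
      exact hN
  · exact ⟨0, by simp [expo]⟩
  · rintro i (rfl | rfl)
    · rw [dvd_iff_small hq3 (k := 0) (r := -nE q) (by simp [expo])]
      exact hN'
    · rw [dvd_iff_small hq3 (k := 0) (r := nE q) (by simp [expo])]
      exact hN
  · exact ⟨0, by simp [expo]⟩
  · rintro i (rfl | rfl)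
    · rw [dvd_iff_small hq3 (k := 0) (r := -nE q) (by simp [expo])]
      exact hN'
    · rw [dvd_iff_small hq3 (k := 0) (r := nE q) (by simp [expo])]
      exact hN

variable {K : Type*} [Field K] [Fintype K] (φ : K ≃+* K) (hq : IsPrimePow q)
  (hK : Fintype.card K = q ^ 3) (hφ : ∀ x, φ x = x ^ q)
  {Γ : Type*} [Group Γ] [Finite Γ] {σ : Γ →* Gp φ} (hs : Function.Surjective σ)
  (hc : σ.ker ≤ Subgroup.center Γ)
include hq hK hφ hs hc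

/-- A section over the six classes. -/
theorem exists_section_large : ∃ V : Subgroup Γ, Nat.card V ≤ q ^ 12 ∧
    ⨆ i, Xc φ i ≤ V.map σ := by
  obtain ⟨s1, c1, ⟨ca, sa⟩, ⟨cb, sb⟩, ⟨cc, sc⟩, ⟨cd, sd⟩, ⟨cg, sg⟩⟩ := expo_facts hq3
  let T := fun a m => tz φ hq hK hφ a m
  have hT : ∀ a m, T a m ∈ Tor φ := tz_mem φ hq hK hφ
  have fpf : ∀ {i : Fin 6} {a m : ℤ}, ¬ ((q : ℤ) - 1) * nE q ∣ expo q a m i →
      Fpf (T a m) (Xc φ i) := fun h => tz_fpf φ hq hK hφ _ h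
  have cen : ∀ {i : Fin 6} {a m : ℤ}, ((q : ℤ) - 1) * nE q ∣ expo q a m i →
      ∀ x ∈ Xc φ i, x * T a m = T a m * x := fun h => tz_centralises φ hq hK hφ _ h
  have fix : ∀ {i j : Fin 6} {a m : ℤ}, 6 ≤ ht i + ht j →
      ((q : ℤ) - 1) * nE q ∣ expo q a m i → ¬ ((q : ℤ) - 1) * nE q ∣ expo q a m j →
      ∀ r b, σ r ∈ Xc φ i → σ b ∈ Xc φ j → r * b = b * r := by
    intro i j a m hij h1 h2 r b hr hb
    exact commute_of_fix hs hc (norms_Xc φ j _ (hT a m)) (fpf h2) (cen h1 _ hr)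
      (fun y hy => comm_of_high φ hij hr hy) hb
  have h5 : ∀ a b, σ a ∈ Xc φ 5 → σ b ∈ Xc φ 5 → a * b = b * a := by
    intro a b ha hb
    obtain ⟨y, hy, z, hz, e⟩ := top_comm φ hb
    obtain ⟨Y, rfl⟩ := hs y
    obtain ⟨Z, rfl⟩ := hs z
    have hY : Commute a Y := fix (by decide) cg (sg 4 (Or.inr rfl)) a Y ha hy
    have hZ : Commute a Z := fix (by decide) cg (sg 0 (Or.inl rfl)) a Z ha hz
    have hzb : b = ⁅Y, Z⁆ * (⁅Y, Z⁆⁻¹ * b) := (mul_inv_cancel_left _ b).symm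
    have hcen : ⁅Y, Z⁆⁻¹ * b ∈ Subgroup.center Γ := hc (by
      rw [MonoidHom.mem_ker, map_mul, map_inv, map_commutatorElement, e, inv_mul_cancel])
    rw [hzb]
    refine Commute.eq (Commute.mul_right ?_ (Subgroup.mem_center_iff.1 hcen a))
    rw [commutatorElement_def]
    exact ((hY.mul_right hZ).mul_right hY.inv_right).mul_right hZ.inv_right
  have hab : ∀ i, ∀ a b, σ a ∈ Xc φ i → σ b ∈ Xc φ i → a * b = b * a := fun i => by
    have : (i = 1 ∨ i = 2 ∨ i = 3) ∨ (i = 0 ∨ i = 4 ∨ i = 5) := by omega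
    rcases this with h | h
    · exact abelian_short φ hq hK hφ hs hc i h
    · exact abelian_long φ hq hK hφ hs hc h5 i h
  have hf : ∀ i, ∃ t ∈ Tor φ, Fpf t (Xc φ i) := fun i => by
    have : (i = 1 ∨ i = 2 ∨ i = 3) ∨ (i = 0 ∨ i = 4) ∨ i = 5 := by omega
    rcases this with h | h | h
    · exact ⟨_, hT _ _, fpf (s1 i h)⟩
    · exact ⟨_, hT _ _, fpf (sg i h)⟩
    · exact ⟨_, hT _ _, fpf (sd i (Or.inr h))⟩
  have hgood : ∀ i, Good σ (Tor φ) (Xc φ i) := fun i => by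
    obtain ⟨t, ht, htf⟩ := hf i
    exact good_of_abelian hs hc ht (fun s hs' => Tor_comm φ hs' ht) (norms_Xc φ i) htf (hab i)
  have hpairs : ∀ i j : Fin 6, i < j →
      (∀ a b, σ a ∈ Xc φ i → σ b ∈ Xc φ j → a * b = b * a) ∨
        ∃ t ∈ Tor φ, (∀ x ∈ Xc φ i, x * t = t * x) ∧ Fpf t (Xc φ j) ∧
          ∀ x ∈ Xc φ i, ∀ y ∈ Xc φ j, x * y * x⁻¹ ∈ ⨆ k, ⨆ (_ : i < k), Xc φ k := by
    intro i j hij
    have sw : ∀ {a m : ℤ}, 6 ≤ ht j + ht i → ((q : ℤ) - 1) * nE q ∣ expo q a m j →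
        ¬ ((q : ℤ) - 1) * nE q ∣ expo q a m i →
        (∀ a b, σ a ∈ Xc φ i → σ b ∈ Xc φ j → a * b = b * a) ∨
          ∃ t ∈ Tor φ, (∀ x ∈ Xc φ i, x * t = t * x) ∧ Fpf t (Xc φ j) ∧
            ∀ x ∈ Xc φ i, ∀ y ∈ Xc φ j, x * y * x⁻¹ ∈ ⨆ k, ⨆ (_ : i < k), Xc φ k :=
      fun h h1 h2 => Or.inl fun a b ha hb => (fix h h1 h2 b a hb ha).symm
    have go : ∀ {a m : ℤ}, ((q : ℤ) - 1) * nE q ∣ expo q a m i →
        ¬ ((q : ℤ) - 1) * nE q ∣ expo q a m j →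
        (∀ a b, σ a ∈ Xc φ i → σ b ∈ Xc φ j → a * b = b * a) ∨
          ∃ t ∈ Tor φ, (∀ x ∈ Xc φ i, x * t = t * x) ∧ Fpf t (Xc φ j) ∧
            ∀ x ∈ Xc φ i, ∀ y ∈ Xc φ j, x * y * x⁻¹ ∈ ⨆ k, ⨆ (_ : i < k), Xc φ k :=
      fun h1 h2 => Or.inr ⟨_, hT _ _, cen h1, fpf h2, fun x hx y hy => conj_mem_sup φ hij hx hy⟩
    fin_cases i <;> fin_cases j <;> first | exact absurd hij (by decide) | skip
    · exact go (c1 0 (Or.inl rfl)) (s1 1 (Or.inl rfl))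
    · exact go (c1 0 (Or.inl rfl)) (s1 2 (Or.inr (Or.inl rfl)))
    · exact go (c1 0 (Or.inl rfl)) (s1 3 (Or.inr (Or.inr rfl)))
    · exact go ca (sa 4 (Or.inl rfl))
    · exact go ca (sa 5 (Or.inr rfl))
    · exact go cb (sb 2 (Or.inl rfl))
    · exact go cb (sb 3 (Or.inr (Or.inl rfl)))
    · exact go cb (sb 4 (Or.inr (Or.inr rfl)))
    · exact sw (by decide) (c1 5 (Or.inr (Or.inr rfl))) (s1 1 (Or.inl rfl))
    · exact go cc (sc 3 (Or.inl rfl))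
    · exact sw (by decide) (c1 4 (Or.inr (Or.inl rfl))) (s1 2 (Or.inr (Or.inl rfl)))
    · exact go cc (sc 5 (Or.inr rfl))
    · exact go cd (sd 4 (Or.inl rfl))
    · exact go cd (sd 5 (Or.inr rfl))
    · exact sw (by decide) cg (sg 4 (Or.inr rfl))
  obtain ⟨V, hV, hle⟩ := exists_section hs hc (Xc φ) (norms_Xc φ) hgood hf hpairs
  refine ⟨V, hV.trans ?_, hle⟩
  calc ∏ i, Nat.card (Xc φ i) ≤ ∏ i, q ^ sym.olen (cls i) :=
          Finset.prod_le_prod' fun i _ => card_Xc_le φ hq hK hφ i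
      _ = q ^ 12 := by
        rw [Finset.prod_pow_eq_pow_sum]
        rfl

end CfsgLib.D4Schur
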