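import Cfsg.Agent.Lib.ReeF4Schur.Lift

/-!
Central extensions: a section over a product of subgroups lifted by the commutators with a torus, and
the criterion for a stem extension to have kernel of order prime to `p`.
-/

set_option autoImplicit false
set_option linter.unusedSectionVars false

namespace CfsgLib.D4Schur

open Subgroup CfsgLib.ReeF4Schur
open scoped commutatorElement

variable {Γ G : Type*} [Group Γ] [Group G] [Finite G] {σ : Γ →* G} {T : Subgroup G}

section
variable (hs : Function.Surjective σ) (hc : σ.ker ≤ center Γ)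
include hs hc

/-- An element fixing `t` and centralising `Y` has lifts commuting with the preimage of `Y`,
when `t` fixes only the identity of `Y`. -/
theorem commute_of_fix {Y : Subgroup G} {t : G} (hY : ∀ y ∈ Y, t * y * t⁻¹ ∈ Y) (hf : Fpf t Y)
    {r b : Γ} (hrt : σ r * t = t * σ r) (hrY : ∀ y ∈ Y, σ r * y = y * σ r) (hb : σ b ∈ Y) :
    r * b = b * r := by
  obtain ⟨x, hx, he⟩ := exists_comm_eq hY hf hb
  obtain ⟨a, rfl⟩ := hs t
  obtain ⟨y, rfl⟩ := hs x
  have hz : ⁅a, y⁆⁻¹ * b ∈ center Γ := hc (by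
    rw [MonoidHom.mem_ker, map_mul, map_inv, map_commutatorElement, he, inv_mul_cancel])
  have h1 : r * ⁅a, y⁆ * r⁻¹ = ⁅a, y⁆ := by
    rw [conjugate_commutatorElement]
    refine SchurTrivial.comm_congr hc ?_ ?_
    · rw [map_mul, map_mul, map_inv, hrt, mul_inv_cancel_right]
    · rw [map_mul, map_mul, map_inv, hrY _ hx, mul_inv_cancel_right]
  calc r * b = r * ⁅a, y⁆ * r⁻¹ * (r * (⁅a, y⁆⁻¹ * b)) := by group
    _ = ⁅a, y⁆ * ((⁅a, y⁆⁻¹ * b) * r) := by rw [h1, mem_center_iff.1 hz r]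
    _ = b * r := by group

/-- Conjugating the lift of `Y` by an element fixing `t`. -/
theorem conj_lift_mem {Y : Subgroup G} {R : Subgroup Γ} (hR : ∀ a, σ a ∈ T → ∀ r ∈ R, a * r * a⁻¹ ∈ R)
    {t : G} (ht : t ∈ T) (hY : Norms T Y) (hf : Fpf t Y) (hGY : Good σ T Y) {r : Γ}
    (hrt : σ r * t = t * σ r) (hconj : ∀ y ∈ Y, σ r * y * (σ r)⁻¹ ∈ R.map σ) {w : Γ}
    (hw : w ∈ lift σ T Y) : r * w * r⁻¹ ∈ R := by
  obtain ⟨x, hx, he⟩ := exists_comm_eq (hY t ht) hf (sigma_mem hY hw)
  obtain ⟨a, rfl⟩ := hs t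
  obtain ⟨y, rfl⟩ := hs x
  have e : w = ⁅a, y⁆ := hGY.eq hw (comm_mem_lift ht hx) (by rw [map_commutatorElement, he])
  obtain ⟨ρ, hρ, hρe⟩ := hconj _ hx
  rw [e, conjugate_commutatorElement, SchurTrivial.comm_congr hc (A' := a) (B' := ρ)
    (by rw [map_mul, map_mul, map_inv, hrt, mul_inv_cancel_right])
    (by rw [map_mul, map_mul, map_inv, hρe]), commutatorElement_def]
  exact mul_mem (hR a ht ρ hρ) (inv_mem hρ)

omit hs hc in
/-- The order of a subgroup generated by two subgroups, one normalising the other. -/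
theorem card_sup_le [Finite Γ] {A R : Subgroup Γ} (h : ∀ a ∈ A, ∀ r ∈ R, a * r * a⁻¹ ∈ R) :
    Nat.card ↥(A ⊔ R) ≤ Nat.card A * Nat.card R := by
  let S : Subgroup Γ :=
    { carrier := {g | ∃ a ∈ A, ∃ r ∈ R, g = a * r}
      one_mem' := ⟨1, one_mem _, 1, one_mem _, (mul_one 1).symm⟩
      mul_mem' := by
        rintro _ _ ⟨a, ha, r, hr, rfl⟩ ⟨a', ha', r', hr', rfl⟩
        exact ⟨a * a', mul_mem ha ha', a'⁻¹ * r * a'⁻¹⁻¹ * r',
          mul_mem (h _ (inv_mem ha') _ hr) hr', by group⟩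
      inv_mem' := by
        rintro _ ⟨a, ha, r, hr, rfl⟩
        exact ⟨a⁻¹, inv_mem ha, a * r⁻¹ * a⁻¹, h _ ha _ (inv_mem hr), by group⟩ }
  have hle : A ⊔ R ≤ S := sup_le (fun a ha => ⟨a, ha, 1, one_mem _, (mul_one a).symm⟩)
    (fun r hr => ⟨1, one_mem _, r, hr, (one_mul r).symm⟩)
  refine (Subgroup.card_le_of_le hle).trans ?_
  rw [← Nat.card_prod]
  refine Nat.card_le_card_of_surjective (fun x : A × R => (⟨(x.1 : Γ) * x.2,
    x.1, x.1.2, x.2, x.2.2, rfl⟩ : S)) fun s => ?_
  obtain ⟨a, ha, r, hr, e⟩ := s.2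
  exact ⟨(⟨a, ha⟩, ⟨r, hr⟩), Subtype.ext e.symm⟩

omit hs in
/-- A good lift is not larger than the subgroup. -/
theorem card_lift_le {X : Subgroup G} (hX : Norms T X) (hG : Good σ T X) :
    Nat.card ↥(lift σ T X) ≤ Nat.card X :=
  Nat.card_le_card_of_injective (fun w => (⟨σ w, sigma_mem hX w.2⟩ : X)) fun u v e =>
    Subtype.ext (hG.eq u.2 v.2 (congrArg Subtype.val e))

/-- A section over a product of good subgroups. -/
theorem exists_section [Finite Γ] {m : ℕ} (X : Fin m → Subgroup G) (hX : ∀ i, Norms T (X i))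
    (hG : ∀ i, Good σ T (X i)) (hf : ∀ i, ∃ t ∈ T, Fpf t (X i))
    (hij : ∀ i j, i < j → (∀ a b, σ a ∈ X i → σ b ∈ X j → a * b = b * a) ∨
      ∃ t ∈ T, (∀ x ∈ X i, x * t = t * x) ∧ Fpf t (X j) ∧
        ∀ x ∈ X i, ∀ y ∈ X j, x * y * x⁻¹ ∈ ⨆ k, ⨆ (_ : i < k), X k) :
    ∃ V : Subgroup Γ, Nat.card V ≤ ∏ i, Nat.card (X i) ∧ ⨆ i, X i ≤ V.map σ := by
  let R : ℕ → Subgroup Γ := fun k => ⨆ i : Fin m, ⨆ (_ : k ≤ i.1), lift σ T (X i)
  have hle : ∀ {k : ℕ} {i : Fin m}, k ≤ i.1 → lift σ T (X i) ≤ R k := fun {k i} h =>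
    le_iSup₂ (f := fun (i : Fin m) (_ : k ≤ i.1) => lift σ T (X i)) i h
  have hmap : ∀ i, X i ≤ (lift σ T (X i)).map σ := fun i y hy => by
    obtain ⟨t, ht, hft⟩ := hf i
    obtain ⟨w, hw, e⟩ := exists_lift hs ht (hX i) hft hy
    exact ⟨w, hw, e⟩
  have hRT : ∀ k a, σ a ∈ T → ∀ r ∈ R k, a * r * a⁻¹ ∈ R k := by
    intro k a ha
    have : R k ≤ (R k).comap (MulAut.conj a).toMonoidHom :=
      iSup₂_le fun i hi w hw => hle hi (conj_lift_T (hX i) ha hw)
    exact fun r hr => this hr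
  have hstep : ∀ i : Fin m, ∀ r ∈ lift σ T (X i), ∀ w ∈ R (i.1 + 1),
      r * w * r⁻¹ ∈ R (i.1 + 1) := by
    intro i r hr
    have : R (i.1 + 1) ≤ (R (i.1 + 1)).comap (MulAut.conj r).toMonoidHom := by
      refine iSup₂_le fun j hj w hw => ?_
      show r * w * r⁻¹ ∈ R (i.1 + 1)
      have hrX := sigma_mem (hX i) hr
      rcases hij i j (Fin.lt_def.2 hj) with h | ⟨t, ht, htc, hft, hconj⟩
      · rw [h r w hrX (sigma_mem (hX j) hw), mul_inv_cancel_right]
        exact hle hj hw
      · refine conj_lift_mem hs hc (hRT _) ht (hX j) hft (hG j) (htc _ hrX)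
          (fun y hy => ?_) hw
        refine (iSup₂_le fun k hk => ?_ : (⨆ k, ⨆ (_ : i < k), X k) ≤ (R (i.1 + 1)).map σ)
          (hconj _ hrX y hy)
        exact (hmap k).trans (Subgroup.map_mono (hle (Fin.lt_def.1 hk)))
    exact fun w hw => this hw
  have hcard : ∀ n k, n + k = m →
      Nat.card (R k) ≤ ∏ i ∈ Finset.univ.filter (fun i : Fin m => k ≤ i.1), Nat.card (X i) := by
    intro n
    induction n with
    | zero =>
      intro k hk
      have : R k = ⊥ := by
        simp only [R, iSup_eq_bot]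
        exact fun i hi => absurd i.2 (by omega)
      rw [this, Subgroup.card_bot]
      exact Finset.prod_pos fun i _ => Nat.card_pos
    | succ n ih =>
      intro k hk
      let i : Fin m := ⟨k, by omega⟩
      have heq : R k = lift σ T (X i) ⊔ R (k + 1) := by
        refine le_antisymm (iSup₂_le fun j hj => ?_) (sup_le (hle le_rfl) (iSup₂_le fun j hj =>
          hle (by omega)))
        rcases hj.eq_or_lt with e | e
        · rw [show j = i from Fin.ext e.symm]; exact le_sup_left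
        · exact (hle e).trans le_sup_right
      have hset : Finset.univ.filter (fun j : Fin m => k ≤ j.1) =
          insert i (Finset.univ.filter fun j : Fin m => k + 1 ≤ j.1) := by
        ext j
        simp only [Finset.mem_filter, Finset.mem_univ, true_and, Finset.mem_insert, Fin.ext_iff, i]
        omega
      rw [heq, hset, Finset.prod_insert (by simp [i])]
      exact (card_sup_le (hstep i)).trans
        (Nat.mul_le_mul (card_lift_le hc (hX i) (hG i)) (ih (k + 1) (by omega)))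
  refine ⟨R 0, ?_, iSup_le fun i => (hmap i).trans (Subgroup.map_mono (hle (Nat.zero_le _)))⟩
  have := hcard m 0 rfl
  simpa using this

/-- A subgroup commuting with itself upstairs is good, if some element of the torus fixes only
its identity. -/
theorem good_of_abelian {X : Subgroup G} {t : G} (ht : t ∈ T) (hT : ∀ s ∈ T, s * t = t * s)
    (hX : Norms T X) (hf : Fpf t X)
    (hab : ∀ a b, σ a ∈ X → σ b ∈ X → a * b = b * a) : Good σ T X := by
  refine good_two hs hc ht hT hX (fun s _ x hx => by simp [mem_bot.1 hx]) bot_le (good_bot hc)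
    (fun a b _ hb => mem_center_iff.1 (hc (mem_bot.1 hb)) a)
    (fun a b ha hb => by
      rw [commutatorElement_eq_one_iff_mul_comm.2 (hab a b ha hb)]; exact one_mem _) hf ?_
  intro x hx he
  refine mem_bot.2 (hf x hx ?_)
  rw [mem_bot, commutatorElement_def, mul_inv_eq_one] at he
  exact he

/-- Commuting upstairs is inherited by conjugates. -/
theorem commute_conj {X Y : Subgroup G} (hY : ∀ a b, σ a ∈ Y → σ b ∈ Y → a * b = b * a) {n : G}
    (hn : ∀ x ∈ X, n * x * n⁻¹ ∈ Y) {a b : Γ} (ha : σ a ∈ X) (hb : σ b ∈ X) : a * b = b * a := by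
  obtain ⟨g, rfl⟩ := hs n
  have h := hY (g * a * g⁻¹) (g * b * g⁻¹) (by simpa using hn _ ha) (by simpa using hn _ hb)
  refine (conj_injective g) ?_
  show g * (a * b) * g⁻¹ = g * (b * a) * g⁻¹
  calc g * (a * b) * g⁻¹ = g * a * g⁻¹ * (g * b * g⁻¹) := by group
    _ = g * b * g⁻¹ * (g * a * g⁻¹) := h
    _ = g * (b * a) * g⁻¹ := by group
where
  conj_injective (g : Γ) : Function.Injective fun x : Γ => g * x * g⁻¹ :=
    fun a b e => by simpa using e

end

/-- A stem extension with a small subgroup over a Sylow subgroup has kernel of order prime to `p`. -/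
theorem not_dvd_of_section [Finite Γ] {p : ℕ} [Fact p.Prime] (hs : Function.Surjective σ)
    (hc : σ.ker ≤ center Γ) (hd : σ.ker ≤ _root_.commutator Γ) (Q : Sylow p G) (V : Subgroup Γ)
    (hV : (Q : Subgroup G) ≤ V.map σ) (hcard : Nat.card V ≤ Nat.card Q) :
    ¬ p ∣ Nat.card σ.ker := by
  obtain ⟨P, hP⟩ := SchurBound.exists_sylow_map_eq σ hs Q
  have hinj : ∀ v ∈ V, σ v = 1 → v = 1 := by
    have hsurj : Function.Surjective (σ.subgroupMap V) := σ.subgroupMap_surjective _
    have hle : Nat.card (Q : Subgroup G) ≤ Nat.card (V.map σ) := Subgroup.card_le_of_le hV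
    have hbij := (Nat.bijective_iff_surjective_and_card _).2 ⟨hsurj,
      le_antisymm (hcard.trans hle) (Nat.card_le_card_of_surjective _ hsurj)⟩
    intro v hv e
    exact congrArg Subtype.val (hbij.1 (a₁ := ⟨v, hv⟩) (a₂ := 1) (Subtype.ext (by simpa using e)))
  refine SchurSylow.not_dvd_card_ker σ hc hd P fun y hy e => ?_
  have hdec : ∀ x ∈ (P : Subgroup Γ), ∃ v ∈ V, ∃ z ∈ center Γ, x = v * z := fun x hx => by
    obtain ⟨v, hv, e⟩ := hV (hP ▸ mem_map_of_mem σ hx)
    exact ⟨v, hv, v⁻¹ * x, hc (by rw [MonoidHom.mem_ker, map_mul, map_inv, e, inv_mul_cancel]),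
      (mul_inv_cancel_left v x).symm⟩
  have hmem : ∀ y ∈ _root_.commutator (P : Subgroup Γ), (y : Γ) ∈ V := by
    intro y hy
    have : _root_.commutator (P : Subgroup Γ) ≤ V.comap (P : Subgroup Γ).subtype := by
      rw [_root_.commutator_def, Subgroup.commutator_le]
      intro a _ b _
      obtain ⟨v, hv, z, hz, ea⟩ := hdec _ a.2
      obtain ⟨v', hv', z', hz', eb⟩ := hdec _ b.2
      show ((⁅a, b⁆ : (P : Subgroup Γ)) : Γ) ∈ V
      rw [show ((⁅a, b⁆ : (P : Subgroup Γ)) : Γ) = ⁅(a : Γ), (b : Γ)⁆ from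
        map_commutatorElement (P : Subgroup Γ).subtype a b, ea, eb,
        Schur.commutatorElement_mul_center hz hz', commutatorElement_def]
      exact mul_mem (mul_mem (mul_mem hv hv') (inv_mem hv)) (inv_mem hv')
    exact this hy
  exact Subtype.ext (hinj _ (hmem y hy) e)

/-- A biadditive map invariant under the same scaling of both variables is trivial. -/
theorem eq_one_of_scale {F M : Type*} [Field F] [Fintype F] [CommGroup M] (hF : 4 < Fintype.card F)
    (β : F → F → M) (hl : ∀ a a' c, β (a + a') c = β a c * β a' c)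
    (hr : ∀ a c c', β a (c + c') = β a c * β a c')
    (hinv : ∀ k, k ≠ 0 → ∀ a c, β (k * a) (k * c) = β a c) (a c : F) : β a c = 1 := by
  classical
  have h0 : ∀ a, β a 0 = 1 := fun a => by
    have := hr a 0 0
    rw [add_zero] at this
    exact left_eq_mul.1 this
  set P : Polynomial F := Polynomial.X ^ 2 + Polynomial.X + 1 with hP
  have hroots : P.roots.toFinset.card ≤ 2 :=
    (Multiset.toFinset_card_le _).trans ((Polynomial.card_roots' _).trans (by rw [hP]; compute_degree))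
  obtain ⟨x, -, hx⟩ := Finset.exists_mem_notMem_of_card_lt_card
    (s := {0, -1} ∪ P.roots.toFinset) (t := Finset.univ) (by
      have := Finset.card_union_le ({0, -1} : Finset F) P.roots.toFinset
      have := Finset.card_le_two (a := (0 : F)) (b := -1)
      rw [Finset.card_univ]
      omega)
  simp only [Finset.mem_union, Finset.mem_insert, Finset.mem_singleton, Multiset.mem_toFinset,
    not_or] at hx
  have hx0 := hx.1.1
  have hne : P ≠ 0 := fun e => by simpa [hP] using congrArg (fun p => p.eval 0) e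
  have hx' : x ^ 2 + x + 1 ≠ 0 := fun e => hx.2 (by
    rw [Polynomial.mem_roots hne, Polynomial.IsRoot.def]
    simpa [hP] using e)
  have hx1 : 1 + x ≠ 0 := fun e => hx.1.2 (by linear_combination e)
  have hmove : ∀ k, k ≠ 0 → ∀ a c, β (k * a) c = β a (k⁻¹ * c) := fun k hk a c => by
    rw [← hinv k hk a (k⁻¹ * c), mul_inv_cancel_left₀ hk]
  set d := 1 + x⁻¹ - (1 + x)⁻¹ with hd
  have hd0 : d ≠ 0 := fun e => hx' (by
    have h3 : d * ((1 + x) * x) = x ^ 2 + x + 1 := by rw [hd]; field_simp; ring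
    rw [e, zero_mul] at h3
    exact h3.symm)
  have key : ∀ a c, β a (d * c) = 1 := fun a c => by
    have e1 := hmove (1 + x) hx1 a c
    rw [add_mul, one_mul, hl, hmove x hx0] at e1
    have e2 : β a ((1 + x⁻¹) * c) = β a ((1 + x)⁻¹ * c) := by rw [← e1, add_mul, one_mul, hr]
    have e3 := hr a (d * c) ((1 + x)⁻¹ * c)
    rw [show d * c + (1 + x)⁻¹ * c = (1 + x⁻¹) * c by rw [hd]; ring, e2] at e3
    exact right_eq_mul.1 e3
  have := key a (d⁻¹ * c)
  rwa [mul_inv_cancel_left₀ hd0] at this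

end CfsgLib.D4Schur
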