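import Cfsg.Agent.Lib.D4Schur.Roots

/-!
Root element calculations in the twisted group of type D4 over the field of order eight.
-/

set_option autoImplicit false
set_option linter.unusedSectionVars false

namespace CfsgLib.D4Schur

open Cfsg.Lie CfsgLib.Chev CfsgLib.Chevalley CfsgLib.Twisted CfsgLib.Twisted.D4 CfsgLib.ReeF4Schur
open scoped commutatorElement

variable {K : Type*} [Field K] [Fintype K] [CharP K 2] (φ : K ≃+* K) (hφ : ∀ x, φ x = x ^ 2)

/-- Roots with a single commutator term. -/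
def Pair (r s v : ℕ) : Prop :=
  r < chevD4.nroots ∧ s < chevD4.nroots ∧ s ≠ r ∧ s ≠ chevD4.neg r ∧
    (chevD4.commTerms r s = [(v, 1, 1, 1)] ∨ chevD4.commTerms r s = [(v, -1, 1, 1)])

/-- Roots with no commutator term. -/
def Quiet (r s : ℕ) : Prop :=
  r < chevD4.nroots ∧ s < chevD4.nroots ∧ s ≠ r ∧ s ≠ chevD4.neg r ∧ chevD4.commTerms r s = []

instance (r s v : ℕ) : Decidable (Pair r s v) := by unfold Pair; infer_instance

instance (r s : ℕ) : Decidable (Quiet r s) := by unfold Quiet; infer_instance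

omit [Fintype K] in
theorem sign_one {e : ℤ} (he : e = 1 ∨ e = -1) : (e : K) = 1 := by
  rcases he with rfl | rfl <;> simp [CharTwo.neg_eq]

omit [Fintype K] in
theorem X_pair {r s v : ℕ} (h : Pair r s v) (t u : K) :
    elX chevD4 K r t * elX chevD4 K s u * (elX chevD4 K r t)⁻¹ =
      elX chevD4 K s u * elX chevD4 K v (t * u) := by
  obtain ⟨hr, hs, hne, hne', hterm⟩ := h
  rw [elX_conj_elX CfsgLib.Chev.D4.checked comm_one hr hs hne hne', ChevalleyDatum.commWord]
  rcases hterm with hterm | hterm <;> rw [hterm, wordGL] <;> simp [CharTwo.neg_eq]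

omit [Fintype K] in
theorem X_quiet {r s : ℕ} (h : Quiet r s) (t u : K) :
    Commute (elX chevD4 K r t) (elX chevD4 K s u) := by
  obtain ⟨hr, hs, hne, hne', hterm⟩ := h
  have e := elX_conj_elX CfsgLib.Chev.D4.checked comm_one (F := K) hr hs hne hne' t u
  rw [ChevalleyDatum.commWord, hterm, wordGL] at e
  simp only [List.map_nil, List.prod_nil, mul_one] at e
  exact mul_inv_eq_iff_eq_mul.1 e

theorem iter_facts :
    sym.olen 12 = 3 ∧ sym.imgIter 1 12 = 18 ∧ sym.imgIter 2 12 = 13 ∧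
    sym.olen 15 = 3 ∧ sym.imgIter 1 15 = 19 ∧ sym.imgIter 2 15 = 16 ∧
    sym.olen 17 = 3 ∧ sym.imgIter 1 17 = 20 ∧ sym.imgIter 2 17 = 21 := by decide +kernel

theorem sgn_facts : ∀ r ∈ [12, 15, 17], ∀ k < 3, sym.sgnIter k r = 1 ∨ sym.sgnIter k r = -1 := by
  decide +kernel

include hφ in
theorem orb_three {r s v : ℕ} (hr : r ∈ [12, 15, 17]) (hlt : r < chevD4.nroots)
    (ho : sym.olen r = 3) (h1 : sym.imgIter 1 r = s) (h2 : sym.imgIter 2 r = v) (t : K) :
    orbX sym_test φ r t = elX chevD4 K r t * elX chevD4 K s (t ^ 2) * elX chevD4 K v (t ^ 4) := by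
  rw [orbX_eq_prod CfsgLib.Chev.D4.checked sym_test φ hlt, ho, List.range_succ, List.range_succ,
    List.range_succ]
  simp only [List.range_zero, List.nil_append, List.cons_append, List.map_cons, List.map_nil,
    List.prod_cons, List.prod_nil, mul_one, sign_one (sgn_facts r hr 0 (by omega)),
    sign_one (sgn_facts r hr 1 (by omega)), sign_one (sgn_facts r hr 2 (by omega)), one_mul, h1, h2,
    iterate_frob hφ]
  simp [TwistSym.imgIter, mul_assoc]

include hφ in
theorem orb_b (t : K) : orbX sym_test φ 12 t =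
    elX chevD4 K 12 t * elX chevD4 K 18 (t ^ 2) * elX chevD4 K 13 (t ^ 4) := by
  obtain ⟨a, b, c, -⟩ := iter_facts
  exact orb_three φ hφ (by simp) (by decide) a b c t

include hφ in
theorem orb_c (t : K) : orbX sym_test φ 15 t =
    elX chevD4 K 15 t * elX chevD4 K 19 (t ^ 2) * elX chevD4 K 16 (t ^ 4) := by
  obtain ⟨-, -, -, a, b, c, -⟩ := iter_facts
  exact orb_three φ hφ (by simp) (by decide) a b c t

include hφ in
theorem orb_d (t : K) : orbX sym_test φ 17 t =
    elX chevD4 K 17 t * elX chevD4 K 20 (t ^ 2) * elX chevD4 K 21 (t ^ 4) := by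
  obtain ⟨-, -, -, -, -, -, a, b, c⟩ := iter_facts
  exact orb_three φ hφ (by simp) (by decide) a b c t

theorem single_orb {r : ℕ} (hr : sym.olen r = 1) (t : K) :
    orbX sym_test φ r t = elX chevD4 K r t := by
  rw [orbX, hr, orbProd_one]

theorem pair_facts : Pair 13 14 16 ∧ Pair 18 14 19 ∧ Pair 18 16 21 ∧ Pair 12 14 15 ∧ Pair 12 19 20 ∧
    Pair 12 16 17 ∧ Pair 12 21 22 ∧ Pair 20 16 23 ∧ Pair 14 22 23 ∧ Pair 15 21 23 ∧ Pair 19 17 23 ∧
    Pair 16 20 23 := by decide +kernel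

theorem quiet_facts : ∀ p ∈ [(20, 17), (23, 17), (23, 20), (23, 21), (23, 22), (23, 16), (23, 15), (23, 19),
    (23, 14), (15, 17), (15, 20), (19, 20), (19, 21), (16, 17), (16, 21),
    (14, 15), (14, 19), (14, 16), (14, 17), (14, 20), (14, 21)], Quiet p.1 p.2 := by decide +kernel

omit [Fintype K] in
theorem conj3 (n a b c : GL chevD4.Idx K) :
    n * (a * b * c) * n⁻¹ = n * a * n⁻¹ * (n * b * n⁻¹) * (n * c * n⁻¹) := by group

include hφ in
/-- The conjugates of the long simple root element. -/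
theorem conj_formula {y : K} (hy : y ^ 7 = 1) :
    orbX sym_test φ 12 y * orbX sym_test φ 14 1 * (orbX sym_test φ 12 y)⁻¹ =
      orbX sym_test φ 14 1 * orbX sym_test φ 15 y * orbX sym_test φ 17 (y ^ 5) *
        orbX sym_test φ 22 1 * orbX sym_test φ 23 1 := by
  obtain ⟨p1, p2, p3, p4, p5, p6, p7, p8, -⟩ := pair_facts
  have q := fun {r s : ℕ} (h : (r, s) ∈ [(20, 17), (23, 17), (23, 20), (23, 21), (23, 22), (23, 16),
    (23, 15), (23, 19), (23, 14), (15, 17), (15, 20), (19, 20), (19, 21), (16, 17), (16, 21),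
    (14, 15), (14, 19), (14, 16), (14, 17), (14, 20), (14, 21)]) (t u : K) =>
      (X_quiet (quiet_facts (r, s) h) t u).eq
  rw [orb_b φ hφ, orb_c φ hφ, orb_d φ hφ, single_orb φ (by decide +kernel : sym.olen 14 = 1),
    single_orb φ (by decide +kernel : sym.olen 22 = 1),
    single_orb φ (by decide +kernel : sym.olen 23 = 1)]
  have e1 := X_pair (K := K) p1 (y ^ 4) 1
  have e2 : elX chevD4 K 18 (y ^ 2) * (elX chevD4 K 14 1 * elX chevD4 K 16 (y ^ 4)) *
      (elX chevD4 K 18 (y ^ 2))⁻¹ =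
      elX chevD4 K 14 1 * elX chevD4 K 19 (y ^ 2) * (elX chevD4 K 16 (y ^ 4) * elX chevD4 K 21 (y ^ 6)) := by
    rw [show ∀ n a b : GL chevD4.Idx K, n * (a * b) * n⁻¹ = n * a * n⁻¹ * (n * b * n⁻¹) from
      fun n a b => by group, X_pair p2, X_pair p3, mul_one, ← pow_add]
  have e3 : elX chevD4 K 12 y * (elX chevD4 K 14 1 * elX chevD4 K 19 (y ^ 2) *
      (elX chevD4 K 16 (y ^ 4) * elX chevD4 K 21 (y ^ 6))) * (elX chevD4 K 12 y)⁻¹ =
      elX chevD4 K 14 1 * elX chevD4 K 15 y * (elX chevD4 K 19 (y ^ 2) * elX chevD4 K 20 (y ^ 3)) *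
        (elX chevD4 K 16 (y ^ 4) * elX chevD4 K 17 (y ^ 5) *
          (elX chevD4 K 21 (y ^ 6) * elX chevD4 K 22 1)) := by
    rw [conj3, show ∀ n a b : GL chevD4.Idx K, n * (a * b) * n⁻¹ = n * a * n⁻¹ * (n * b * n⁻¹) from
      fun n a b => by group, X_pair p4, X_pair p5, X_pair p6, X_pair p7, mul_one, ← pow_succ',
      ← pow_succ', ← pow_succ', hy]
  have e4 : elX chevD4 K 20 (y ^ 3) * elX chevD4 K 16 (y ^ 4) =
      elX chevD4 K 16 (y ^ 4) * elX chevD4 K 23 1 * elX chevD4 K 20 (y ^ 3) := by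
    have := X_pair (K := K) p8 (y ^ 3) (y ^ 4)
    rw [← pow_add, hy] at this
    rw [← this]; group
  calc elX chevD4 K 12 y * elX chevD4 K 18 (y ^ 2) * elX chevD4 K 13 (y ^ 4) * elX chevD4 K 14 1 *
        (elX chevD4 K 12 y * elX chevD4 K 18 (y ^ 2) * elX chevD4 K 13 (y ^ 4))⁻¹
      = elX chevD4 K 12 y * (elX chevD4 K 18 (y ^ 2) * (elX chevD4 K 13 (y ^ 4) * elX chevD4 K 14 1 *
          (elX chevD4 K 13 (y ^ 4))⁻¹) * (elX chevD4 K 18 (y ^ 2))⁻¹) * (elX chevD4 K 12 y)⁻¹ := by group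
    _ = elX chevD4 K 14 1 * elX chevD4 K 15 y * (elX chevD4 K 19 (y ^ 2) * elX chevD4 K 20 (y ^ 3)) *
        (elX chevD4 K 16 (y ^ 4) * elX chevD4 K 17 (y ^ 5) *
          (elX chevD4 K 21 (y ^ 6) * elX chevD4 K 22 1)) := by rw [e1, mul_one, e2, e3]
    _ = elX chevD4 K 14 1 * elX chevD4 K 15 y * elX chevD4 K 19 (y ^ 2) *
        (elX chevD4 K 20 (y ^ 3) * elX chevD4 K 16 (y ^ 4)) * elX chevD4 K 17 (y ^ 5) *
          elX chevD4 K 21 (y ^ 6) * elX chevD4 K 22 1 := by group
    _ = elX chevD4 K 14 1 * elX chevD4 K 15 y * elX chevD4 K 19 (y ^ 2) * elX chevD4 K 16 (y ^ 4) *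
        elX chevD4 K 23 1 * (elX chevD4 K 20 (y ^ 3) * elX chevD4 K 17 (y ^ 5)) *
          elX chevD4 K 21 (y ^ 6) * elX chevD4 K 22 1 := by rw [e4]; group
    _ = _ := by
      rw [q (r := 20) (s := 17) (by simp)]
      have p5 : (y ^ 5) ^ 2 = y ^ 3 := by
        rw [← pow_mul, show 5 * 2 = 7 + 3 by norm_num, pow_add, hy, one_mul]
      have p6 : (y ^ 5) ^ 4 = y ^ 6 := by
        rw [← pow_mul, show 5 * 4 = 7 * 2 + 6 by norm_num, pow_add, pow_mul, hy, one_pow, one_mul]
      rw [p5, p6]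
      have c : Commute (elX chevD4 K 23 (1 : K)) (elX chevD4 K 17 (y ^ 5) * elX chevD4 K 20 (y ^ 3) *
          elX chevD4 K 21 (y ^ 6) * elX chevD4 K 22 1) :=
        (((X_quiet (quiet_facts (23, 17) (by simp)) _ _).mul_right
          (X_quiet (quiet_facts (23, 20) (by simp)) _ _)).mul_right
          (X_quiet (quiet_facts (23, 21) (by simp)) _ _)).mul_right
          (X_quiet (quiet_facts (23, 22) (by simp)) _ _)
      simp only [mul_assoc] at c ⊢
      rw [c.eq]
      simp only [mul_assoc]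

include hφ in
/-- The highest root element is a commutator of two short ones. -/
theorem short_comm : ⁅orbX sym_test φ 15 (1 : K), orbX sym_test φ 17 1⁆ = orbX sym_test φ 23 1 := by
  obtain ⟨-, -, -, -, -, -, -, -, -, p10, p11, p12⟩ := pair_facts
  have Q : ∀ r s : ℕ, (r, s) ∈ [(20, 17), (23, 17), (23, 20), (23, 21), (23, 22), (23, 16), (23, 15),
      (23, 19), (23, 14), (15, 17), (15, 20), (19, 20), (19, 21), (16, 17), (16, 21), (14, 15),
      (14, 19), (14, 16), (14, 17), (14, 20), (14, 21)] →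
      Commute (elX chevD4 K r 1) (elX chevD4 K s 1) :=
    fun r s h => X_quiet (quiet_facts (r, s) h) 1 1
  rw [orb_c φ hφ, orb_d φ hφ, single_orb φ (by decide +kernel : sym.olen 23 = 1)]
  simp only [one_pow]
  set a := elX chevD4 K 15 (1 : K)
  set b := elX chevD4 K 19 (1 : K)
  set c := elX chevD4 K 16 (1 : K)
  set u := elX chevD4 K 17 (1 : K)
  set v := elX chevD4 K 20 (1 : K)
  set w := elX chevD4 K 21 (1 : K)
  set g := elX chevD4 K 23 (1 : K)
  have e12 : c * v * c⁻¹ = v * g := by simpa using X_pair (K := K) p12 1 1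
  have e11 : b * u * b⁻¹ = u * g := by simpa using X_pair (K := K) p11 1 1
  have e10 : a * w * a⁻¹ = w * g := by simpa using X_pair (K := K) p10 1 1
  have gg : g * g = 1 := by
    rw [show g * g = elX chevD4 K 23 (1 + 1) from elX_add CfsgLib.Chev.D4.checked K (by decide) 1 1,
      CharTwo.add_self_eq_zero]
    exact elX_zero CfsgLib.Chev.D4.checked K (by decide)
  have gu : Commute g u := Q 23 17 (by simp)
  have gv : Commute g v := Q 23 20 (by simp)
  have gw : Commute g w := Q 23 21 (by simp)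
  have ga : Commute g a := Q 23 15 (by simp)
  have gb : Commute g b := Q 23 19 (by simp)
  have cu : c * u * c⁻¹ = u := by rw [(Q 16 17 (by simp) : Commute c u).eq, mul_inv_cancel_right]
  have cw : c * w * c⁻¹ = w := by rw [(Q 16 21 (by simp) : Commute c w).eq, mul_inv_cancel_right]
  have bv : b * v * b⁻¹ = v := by rw [(Q 19 20 (by simp) : Commute b v).eq, mul_inv_cancel_right]
  have bw : b * w * b⁻¹ = w := by rw [(Q 19 21 (by simp) : Commute b w).eq, mul_inv_cancel_right]
  have au : a * u * a⁻¹ = u := by rw [(Q 15 17 (by simp) : Commute a u).eq, mul_inv_cancel_right]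
  have av : a * v * a⁻¹ = v := by rw [(Q 15 20 (by simp) : Commute a v).eq, mul_inv_cancel_right]
  have h1 : c * (u * v * w) * c⁻¹ = u * v * w * g := by
    rw [conj3, cu, e12, cw, mul_assoc u v w, mul_assoc u (v * g) w, mul_assoc v g w, gw.eq]
    simp only [mul_assoc]
  have h2 : b * (u * v * w) * b⁻¹ = u * v * w * g := by
    rw [conj3, e11, bv, bw, mul_assoc u g v, gv.eq, ← mul_assoc u v g, mul_assoc (u * v) g w, gw.eq]
    simp only [mul_assoc]
  have h3 : a * (u * v * w) * a⁻¹ = u * v * w * g := by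
    rw [conj3, au, av, e10]
    simp only [mul_assoc]
  calc ⁅a * b * c, u * v * w⁆
      = a * (b * (c * (u * v * w) * c⁻¹) * b⁻¹) * a⁻¹ * (u * v * w)⁻¹ := by
        simp only [commutatorElement_def]; group
    _ = a * (b * (u * v * w) * b⁻¹ * (b * g * b⁻¹)) * a⁻¹ * (u * v * w)⁻¹ := by rw [h1]; group
    _ = a * (u * v * w * (g * g)) * a⁻¹ * (u * v * w)⁻¹ := by
        rw [h2, ← gb.eq, mul_inv_cancel_right]; group
    _ = u * v * w * g * (u * v * w)⁻¹ := by rw [gg, mul_one, h3]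
    _ = g := by
        rw [← ((gu.mul_right gv).mul_right gw).eq, mul_inv_cancel_right]

include hφ in
/-- The two long simple classes do not commute. -/
theorem long_comm : orbX sym_test φ 14 (1 : K) * orbX sym_test φ 22 1 * (orbX sym_test φ 14 1)⁻¹ =
    orbX sym_test φ 22 1 * orbX sym_test φ 23 1 := by
  obtain ⟨-, -, -, -, -, -, -, -, p9, -⟩ := pair_facts
  rw [single_orb φ (by decide +kernel : sym.olen 14 = 1),
    single_orb φ (by decide +kernel : sym.olen 22 = 1),
    single_orb φ (by decide +kernel : sym.olen 23 = 1), X_pair p9, mul_one]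

end CfsgLib.D4Schur
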