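import Cfsg.Agent.Lib.D4Schur.Chars
import Cfsg.Agent.Lib.D4Schur.TwoCalc

/-!
The twisted group of type D4 over the field of order eight: elements, relations and generators of the
positive unipotent subgroup.
-/

set_option autoImplicit false
set_option linter.unusedSectionVars false

namespace CfsgLib.D4Schur

open Cfsg.Lie CfsgLib.Chev CfsgLib.Chevalley CfsgLib.Twisted CfsgLib.Twisted.D4 CfsgLib.ReeF4Schur
open scoped commutatorElement

variable {K : Type*} [Field K] [Fintype K] [CharP K 2] (φ : K ≃+* K)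
  (hK : Fintype.card K = 2 ^ 3) (hφ : ∀ x, φ x = x ^ 2)

theorem two_pp : IsPrimePow 2 := Nat.prime_two.isPrimePow

theorem olen_all : sym.olen (cls 1) = 3 ∧ sym.olen (cls 2) = 3 ∧ sym.olen (cls 3) = 3 ∧
    sym.olen (cls 0) = 1 ∧ sym.olen (cls 4) = 1 ∧ sym.olen (cls 5) = 1 := by decide +kernel

/-- The elements with parameter one. -/
noncomputable def oneE (i : Fin 6) : Gp φ := xe φ i 1 (isPar_one φ _)

theorem oneE_mem (i : Fin 6) : oneE φ i ∈ Xc φ i := xe_mem φ i _ _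

theorem xe_zero (i : Fin 6) (h : IsPar sym φ (cls i) 0) : xe φ i 0 h = 1 :=
  Subtype.ext (orbX_zero CfsgLib.Chev.D4.checked sym_test φ (cls_lt i))

theorem oneE_ne (i : Fin 6) : oneE φ i ≠ 1 := fun e => one_ne_zero
  (orbX_inj CfsgLib.Chev.D4.checked comm_one (TwistSym.htPos orbit_ok) sym_test orbit_ok φ
    (cls_mem i) ((congrArg Subtype.val e).trans
      (orbX_zero CfsgLib.Chev.D4.checked sym_test φ (cls_lt i)).symm))

include hφ

theorem long_two {i : Fin 6} (hi : sym.olen (cls i) = 1) {x : Gp φ} (hx : x ∈ Xc φ i) :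
    x = 1 ∨ x = oneE φ i := by
  obtain ⟨t, ht, rfl⟩ := exists_xe φ hx
  have h : t ^ 2 = t := by
    have h' := ht
    rwa [IsPar, hi, Function.iterate_one, hφ] at h'
  rcases mul_eq_zero.1 (show t * (t - 1) = 0 by linear_combination h) with e | e
  · left; subst e; exact xe_zero φ i _
  · right; exact xe_congr φ i _ _ (sub_eq_zero.1 e)

theorem long_sq {i : Fin 6} (hi : sym.olen (cls i) = 1) : oneE φ i * oneE φ i = 1 := by
  have h : IsPar sym φ (cls i) (1 + 1) := by rw [CharTwo.add_self_eq_zero]; exact isPar_zero φ _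
  rw [oneE, xe_mul φ i _ _ h, xe_congr φ i h (isPar_zero φ _) (CharTwo.add_self_eq_zero 1), xe_zero φ]

omit hφ in
include hφ in
theorem zero_short_commute {j : Fin 6} (hj : j = 2 ∨ j = 3) {x y : Gp φ} (hx : x ∈ Xc φ 0)
    (hy : y ∈ Xc φ j) : x * y = y * x := by
  obtain ⟨t, ht, rfl⟩ := exists_xe φ hx
  obtain ⟨u, hu, rfl⟩ := exists_xe φ hy
  apply Subtype.ext
  show orbX sym_test φ (cls 0) t * orbX sym_test φ (cls j) u =
    orbX sym_test φ (cls j) u * orbX sym_test φ (cls 0) t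
  rw [show cls 0 = 14 from rfl, single_orb φ (by decide +kernel : sym.olen 14 = 1)]
  rcases hj with rfl | rfl
  · rw [show cls 2 = 15 from rfl, orb_c φ hφ]
    exact (((X_quiet (quiet_facts (14, 15) (by simp)) _ _).mul_right
      (X_quiet (quiet_facts (14, 19) (by simp)) _ _)).mul_right
      (X_quiet (quiet_facts (14, 16) (by simp)) _ _)).eq
  · rw [show cls 3 = 17 from rfl, orb_d φ hφ]
    exact (((X_quiet (quiet_facts (14, 17) (by simp)) _ _).mul_right
      (X_quiet (quiet_facts (14, 20) (by simp)) _ _)).mul_right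
      (X_quiet (quiet_facts (14, 21) (by simp)) _ _)).eq

theorem g_eq_comm : oneE φ 5 = ⁅oneE φ 2, oneE φ 3⁆ := by
  apply Subtype.ext
  rw [show ((⁅oneE φ 2, oneE φ 3⁆ : Gp φ) : GL chevD4.Idx K) =
      ⁅orbX sym_test φ (cls 2) 1, orbX sym_test φ (cls 3) 1⁆ from
    map_commutatorElement (twistGrp sym_test φ).subtype _ _]
  exact (short_comm φ hφ).symm

theorem long_conj : oneE φ 0 * oneE φ 4 * (oneE φ 0)⁻¹ = oneE φ 4 * oneE φ 5 :=
  Subtype.ext (long_comm φ hφ)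

include hK

theorem pow_seven {y : K} (hy : y ≠ 0) : y ^ 7 = 1 := by
  have := FiniteField.pow_card_sub_one_eq_one y hy
  rwa [hK] at this

theorem conj_a (y : K) (hy : y ≠ 0) :
    xe φ 1 y (isPar_three φ hK hφ olen_all.1 y) * oneE φ 0 *
        (xe φ 1 y (isPar_three φ hK hφ olen_all.1 y))⁻¹ =
      oneE φ 0 * xe φ 2 y (isPar_three φ hK hφ olen_all.2.1 y) *
        xe φ 3 (y ^ 5) (isPar_three φ hK hφ olen_all.2.2.1 _) * oneE φ 4 * oneE φ 5 :=
  Subtype.ext (conj_formula φ hφ (pow_seven φ hK hφ hy))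

theorem comm_a (y : K) (hy : y ≠ 0) :
    ⁅oneE φ 0, xe φ 1 y (isPar_three φ hK hφ olen_all.1 y) * oneE φ 0 *
        (xe φ 1 y (isPar_three φ hK hφ olen_all.1 y))⁻¹⁆ = oneE φ 5 := by
  rw [conj_a φ hK hφ y hy]
  set A := oneE φ 0
  set C := xe φ 2 y (isPar_three φ hK hφ olen_all.2.1 y)
  set Dd := xe φ 3 (y ^ 5) (isPar_three φ hK hφ olen_all.2.2.1 _)
  set Ee := oneE φ 4
  set g := oneE φ 5
  have cC : Commute A C := zero_short_commute φ hφ (Or.inl rfl) (oneE_mem φ 0) (xe_mem φ 2 _ _)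
  have cD : Commute A Dd := zero_short_commute φ hφ (Or.inr rfl) (oneE_mem φ 0) (xe_mem φ 3 _ _)
  have gA : Commute g A := comm_of_high φ (by decide) (oneE_mem φ 5) (oneE_mem φ 0)
  have gC : Commute g C := comm_of_high φ (by decide) (oneE_mem φ 5) (xe_mem φ 2 _ _)
  have gD : Commute g Dd := comm_of_high φ (by decide) (oneE_mem φ 5) (xe_mem φ 3 _ _)
  have gE : Commute g Ee := comm_of_high φ (by decide) (oneE_mem φ 5) (oneE_mem φ 4)
  have h1 : A * (A * C * Dd * Ee * g) * A⁻¹ = A * C * Dd * Ee * g * g := by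
    calc A * (A * C * Dd * Ee * g) * A⁻¹
        = A * (A * C * A⁻¹) * (A * Dd * A⁻¹) * (A * Ee * A⁻¹) * (A * g * A⁻¹) := by group
      _ = _ := by
        rw [show A * C * A⁻¹ = C by rw [cC.eq, mul_inv_cancel_right],
          show A * Dd * A⁻¹ = Dd by rw [cD.eq, mul_inv_cancel_right],
          show A * g * A⁻¹ = g by rw [← gA.eq, mul_inv_cancel_right], long_conj φ hφ]
        simp only [Ee, g, mul_assoc]
  rw [commutatorElement_def, h1]
  have : Commute g (A * C * Dd * Ee * g) :=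
    (((gA.mul_right gC).mul_right gD).mul_right gE).mul_right (Commute.refl g)
  rw [← this.eq, mul_inv_cancel_right]

/-- Generators of the positive unipotent subgroup. -/
theorem gen_all (D : Subgroup (Gp φ)) (hA : oneE φ 0 ∈ D) (hB : Xc φ 1 ≤ D) (hg : oneE φ 5 ∈ D)
    (hT : ∀ a m : ℤ, ∀ x ∈ D, tz φ two_pp hK hφ a m * x * (tz φ two_pp hK hφ a m)⁻¹ ∈ D) :
    ⨆ i, Xc φ i ≤ D := by
  obtain ⟨ob, oc, od, oa, oe, og⟩ := olen_all
  set P := fun y : K => xe φ 2 y (isPar_three φ hK hφ oc y) with hP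
  set Q := fun y : K => xe φ 3 y (isPar_three φ hK hφ od y) with hQ
  have hX5 : Xc φ 5 ≤ D := fun x hx => by
    rcases long_two φ hφ og hx with rfl | rfl
    exacts [one_mem _, hg]
  have hPy : ∀ y : K, y ≠ 0 → P y * Q (y ^ 5) * oneE φ 4 * oneE φ 5 ∈ D := by
    intro y hy
    have h := mul_mem (mul_mem (hB (xe_mem φ 1 y (isPar_three φ hK hφ ob y))) hA)
      (inv_mem (hB (xe_mem φ 1 y (isPar_three φ hK hφ ob y))))
    rw [conj_a φ hK hφ y hy] at h
    have := mul_mem (inv_mem hA) h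
    simpa [hP, hQ, mul_assoc] using this
  have hPy' : ∀ y : K, y ≠ 0 → P y * Q (y ^ 5) * oneE φ 4 ∈ D := fun y hy => by
    simpa using mul_mem (hPy y hy) (inv_mem hg)
  have hswap : ∀ u v, ∃ g ∈ Xc φ 5, Q u * P v = P v * Q u * g := by
    intro u v
    refine ⟨⁅(Q u)⁻¹, (P v)⁻¹⁆, ?_, by simp only [inv_inv, commutatorElement_def]; group⟩
    have h := high_le_sup φ (by norm_num : (1 : ℤ) ≤ 3 + 2) (posU_le_normalises φ (by norm_num)
      (by norm_num) (Xc_high φ (i := 3) (inv_mem (xe_mem φ 3 u (isPar_three φ hK hφ od u))))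
      (Xc_high φ (i := 2) (inv_mem (xe_mem φ 2 v (isPar_three φ hK hφ oc v)))))
    have hle : (⨆ i, ⨆ (_ : (3 : ℤ) + 2 ≤ ht i), Xc φ i) ≤ Xc φ 5 := iSup₂_le fun i hi => by
      rw [show i = 5 by revert i; decide]
    exact hle h
  have Qadd : ∀ u v, Q u * Q v = Q (u + v) := fun u v => xe_mul φ 3 _ _ _
  have Padd : ∀ u v, P u * P v = P (u + v) := fun u v => xe_mul φ 2 _ _ _
  have eQ : ∀ u, oneE φ 4 * Q u = Q u * oneE φ 4 := fun u =>
    comm_of_high φ (by decide) (oneE_mem φ 4) (xe_mem φ 3 _ _)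
  have eP : ∀ u, oneE φ 4 * P u = P u * oneE φ 4 := fun u =>
    comm_of_high φ (by decide) (oneE_mem φ 4) (xe_mem φ 2 _ _)
  have gX : ∀ {g : Gp φ}, g ∈ Xc φ 5 → ∀ u, g * Q u = Q u * g := fun hg' u =>
    comm_of_high φ (by decide) hg' (xe_mem φ 3 _ _)
  obtain ⟨y, hy0, hy1⟩ : ∃ y : K, y ≠ 0 ∧ y ≠ 1 := by
    classical
    obtain ⟨y, -, hy⟩ := Finset.exists_mem_notMem_of_card_lt_card (s := ({0, 1} : Finset K))
      (t := Finset.univ) (by
        rw [Finset.card_univ, hK]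
        exact lt_of_le_of_lt Finset.card_le_two (by norm_num))
    exact ⟨y, by simpa [not_or] using hy⟩
  have hy2 : y + 1 ≠ 0 := fun e => hy1 (by rw [eq_neg_of_add_eq_zero_left e, CharTwo.neg_eq])
  set v₀ := y ^ 5 + 1 + (y + 1) ^ 5 with hv₀
  have hv₀0 : v₀ ≠ 0 := by
    intro e
    have h2 : (2 : K) = 0 := CharTwo.two_eq_zero
    have : y * (y ^ 3 - 1) = 0 := by
      linear_combination e - (y ^ 5 + 2 * y ^ 4 + 5 * y ^ 3 + 5 * y ^ 2 + 3 * y + 1) * h2
    rcases mul_eq_zero.1 this with h | h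
    · exact hy0 h
    · have h3 : y ^ 3 = 1 := sub_eq_zero.1 h
      have h7 := pow_seven φ hK hφ hy0
      rw [show 7 = 3 * 2 + 1 by norm_num, pow_add, pow_mul, h3, one_pow, one_mul, pow_one] at h7
      exact hy1 h7
  have hQe : Q v₀ * oneE φ 4 ∈ D := by
    obtain ⟨g, hgm, hsw⟩ := hswap (y ^ 5) 1
    have h := mul_mem (mul_mem (hPy' y hy0) (hPy' 1 one_ne_zero)) (inv_mem (hX5 hgm))
    have e1 : P y * Q (y ^ 5) * oneE φ 4 * (P 1 * Q (1 ^ 5) * oneE φ 4) * g⁻¹ =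
        P (y + 1) * Q (y ^ 5 + 1) * (oneE φ 4 * oneE φ 4) := by
      calc P y * Q (y ^ 5) * oneE φ 4 * (P 1 * Q (1 ^ 5) * oneE φ 4) * g⁻¹
          = P y * Q (y ^ 5) * (oneE φ 4 * P 1) * Q (1 ^ 5) * oneE φ 4 * g⁻¹ := by group
        _ = P y * (Q (y ^ 5) * P 1) * (oneE φ 4 * Q (1 ^ 5)) * oneE φ 4 * g⁻¹ := by rw [eP]; group
        _ = P y * P 1 * Q (y ^ 5) * (g * Q (1 ^ 5)) * (oneE φ 4 * oneE φ 4) * g⁻¹ := by
          rw [hsw, eQ]; group
        _ = P y * P 1 * (Q (y ^ 5) * Q (1 ^ 5)) * g * (oneE φ 4 * oneE φ 4) * g⁻¹ := by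
          rw [gX hgm]; group
        _ = _ := by
          rw [long_sq φ hφ oe, mul_one, mul_one, mul_inv_cancel_right, Padd, Qadd, one_pow]
    rw [e1, long_sq φ hφ oe, mul_one] at h
    have h2 := mul_mem (inv_mem h) (hPy' (y + 1) hy2)
    have hinv : (Q (y ^ 5 + 1))⁻¹ = Q (y ^ 5 + 1) := inv_eq_of_mul_eq_one_right (by
      rw [Qadd]
      exact (xe_congr φ 3 _ (isPar_zero φ _) (CharTwo.add_self_eq_zero _)).trans (xe_zero φ 3 _))
    rw [show (P (y + 1) * Q (y ^ 5 + 1))⁻¹ * (P (y + 1) * Q ((y + 1) ^ 5) * oneE φ 4) =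
      (Q (y ^ 5 + 1))⁻¹ * Q ((y + 1) ^ 5) * oneE φ 4 by group, hinv, Qadd] at h2
    exact h2
  have hQe' : ∀ v : K, v ≠ 0 → Q v * oneE φ 4 ∈ D := by
    intro v hv
    obtain ⟨n, hn⟩ := Subgroup.mem_zpowers_iff.1 (gen0_spec (Units.mk0 (v / v₀) (div_ne_zero hv hv₀0)))
    have h := hT (5 * n) 0 _ hQe
    set H := tz φ two_pp hK hφ (5 * n) 0
    obtain ⟨h3', e3⟩ := tz_conj φ two_pp hK hφ 3 (5 * n) 0 (isPar_three φ hK hφ od v₀)
    have e4 : H * oneE φ 4 * H⁻¹ = oneE φ 4 := by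
      rw [← (tz_centralises φ two_pp hK hφ 4 (a := 5 * n) (m := 0)
        ⟨5 * n, by simp [expo]⟩ _ (oneE_mem φ 4)), mul_inv_cancel_right]
    have hscale : (gen0 (K := K)) ^ expo 2 (5 * n) 0 3 = (gen0 (K := K)) ^ n := by
      rw [show expo 2 (5 * n) 0 3 = n + 14 * n by simp [expo]; ring, zpow_add,
        (gen0_zpow_eq_one (K := K) two_pp hK (14 * n)).2 ⟨2 * n, by simp [nE]; ring⟩, mul_one]
    rw [show H * (Q v₀ * oneE φ 4) * H⁻¹ = H * Q v₀ * H⁻¹ * (H * oneE φ 4 * H⁻¹) by group, e4,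
      show H * Q v₀ * H⁻¹ = Q v from e3.trans (xe_congr φ 3 _ _ (by
        rw [hscale, hn, Units.val_mk0, div_mul_cancel₀ _ hv₀0]))] at h
    exact h
  have hX3 : ∀ v, Q v ∈ D := by
    intro v
    by_cases hv : v = 0
    · rw [show Q v = 1 from (xe_congr φ 3 _ (isPar_zero φ _) hv).trans (xe_zero φ 3 _)]
      exact one_mem _
    classical
    obtain ⟨w, -, hw⟩ := Finset.exists_mem_notMem_of_card_lt_card (s := ({0, v} : Finset K))
      (t := Finset.univ) (by
        rw [Finset.card_univ, hK]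
        exact lt_of_le_of_lt Finset.card_le_two (by norm_num))
    simp only [Finset.mem_insert, Finset.mem_singleton, not_or] at hw
    have hne : v + w ≠ 0 := fun e => hw.2 (by
      rw [eq_neg_of_add_eq_zero_right e, CharTwo.neg_eq])
    have h := mul_mem (hQe' (v + w) hne) (hQe' w hw.1)
    rwa [show Q (v + w) * oneE φ 4 * (Q w * oneE φ 4) = Q (v + w) * (oneE φ 4 * Q w) * oneE φ 4 by group,
      eQ, show Q (v + w) * (Q w * oneE φ 4) * oneE φ 4 = Q (v + w) * Q w * (oneE φ 4 * oneE φ 4) by group,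
      long_sq φ hφ oe, mul_one, Qadd,
      show Q (v + w + w) = Q v from xe_congr φ 3 _ _ (by
        rw [add_assoc, CharTwo.add_self_eq_zero, add_zero])] at h
  have hE : oneE φ 4 ∈ D := by simpa using mul_mem (inv_mem (hX3 v₀)) hQe
  have hX2 : ∀ v, P v ∈ D := by
    intro v
    by_cases hv : v = 0
    · rw [show P v = 1 from (xe_congr φ 2 _ (isPar_zero φ _) hv).trans (xe_zero φ 2 _)]
      exact one_mem _
    have := mul_mem (mul_mem (hPy' v hv) (inv_mem hE)) (inv_mem (hX3 (v ^ 5)))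
    simpa only [mul_inv_cancel_right] using this
  refine iSup_le fun i x hx => ?_
  have : i = 0 ∨ i = 1 ∨ i = 2 ∨ i = 3 ∨ i = 4 ∨ i = 5 := by omega
  rcases this with rfl | rfl | rfl | rfl | rfl | rfl
  · rcases long_two φ hφ oa hx with rfl | rfl
    exacts [one_mem _, hA]
  · exact hB hx
  · obtain ⟨t, ht, rfl⟩ := exists_xe φ hx; exact hX2 t
  · obtain ⟨t, ht, rfl⟩ := exists_xe φ hx; exact hX3 t
  · rcases long_two φ hφ oe hx with rfl | rfl
    exacts [one_mem _, hE]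
  · exact hX5 hx

end CfsgLib.D4Schur
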