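import Cfsg.Agent.Lib.D4Schur.Short
import Cfsg.Agent.Lib.D4Schur.TwoGen

/-!
The twisted group of type D4 over the field of order eight: a section over the positive unipotent
subgroup.
-/

set_option autoImplicit false
set_option linter.unusedSectionVars false

namespace CfsgLib.D4Schur

open Cfsg.Lie CfsgLib.Chev CfsgLib.Chevalley CfsgLib.Twisted CfsgLib.Twisted.D4 CfsgLib.ReeF4Schur
open scoped commutatorElement

variable {K : Type*} [Field K] [Fintype K] [CharP K 2] (φ : K ≃+* K)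
  (hK : Fintype.card K = 2 ^ 3) (hφ : ∀ x, φ x = x ^ 2)
include hK hφ

theorem tz_seven (a m : ℤ) : tz φ two_pp hK hφ a m ^ 7 = 1 := by
  apply Subtype.ext
  rw [SubmonoidClass.coe_pow]
  show torus chevD4 tb K (hPar chevD4 K (cpar φ _ _)) ^ 7 = 1
  rw [← map_pow, ← map_pow]
  have : cpar φ ((gen0 (K := K)) ^ a) ((gen0 (K := K)) ^ (m * nE 2)) ^ 7 = 1 := by
    funext j
    exact Units.ext (by rw [Pi.pow_apply, Units.val_pow_eq_pow_val]; exact pow_seven φ hK hφ (Units.ne_zero _))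
  rw [this, map_one, map_one]

variable {Γ : Type*} [Group Γ] [Finite Γ] {σ : Γ →* Gp φ} (hs : Function.Surjective σ)
  (hc : σ.ker ≤ Subgroup.center Γ)
include hs hc

/-- A section over the six classes. -/
theorem exists_section_two : ∃ V : Subgroup Γ, Nat.card V ≤ 2 ^ 12 ∧
    ⨆ i, Xc φ i ≤ V.map σ := by
  classical
  obtain ⟨ob, oc, od, oa, oe, og⟩ := olen_all
  set H1 := tz φ two_pp hK hφ 1 0 with hH1
  have hH1T : H1 ∈ Tor φ := tz_mem φ two_pp hK hφ 1 0
  have fpf : ∀ i : Fin 6, i = 1 ∨ i = 2 ∨ i = 3 → Fpf H1 (Xc φ i) := by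
    rintro i (rfl | rfl | rfl) <;> exact tz_fpf φ two_pp hK hφ _ (by decide)
  have cenT : ∀ (a m : ℤ) (i : Fin 6), i = 0 ∨ i = 5 →
      ∀ x ∈ Xc φ i, x * tz φ two_pp hK hφ a m = tz φ two_pp hK hφ a m * x := by
    rintro a m i (rfl | rfl) <;> refine tz_centralises φ two_pp hK hφ _ ?_
    · exact ⟨2 * m - a, by simp [expo, nE]; ring⟩
    · exact ⟨m, by simp [expo, nE]; ring⟩
  have ac : ∀ {j : Fin 6}, j = 2 ∨ j = 3 → ∀ r b, σ r ∈ Xc φ 0 → σ b ∈ Xc φ j → r * b = b * r :=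
    fun {j} hj r b hr hb => commute_of_fix hs hc (norms_Xc φ j _ hH1T)
      (fpf j (Or.inr hj)) (cenT 1 0 0 (Or.inl rfl) _ hr)
      (fun y hy => zero_short_commute φ hφ hj hr hy) hb
  have gb : ∀ r b, σ r ∈ Xc φ 5 → σ b ∈ Xc φ 1 → r * b = b * r :=
    fun r b hr hb => commute_of_fix hs hc (norms_Xc φ 1 _ hH1T)
      (fpf 1 (Or.inl rfl)) (cenT 1 0 5 (Or.inr rfl) _ hr)
      (fun y hy => comm_of_high φ (by decide) hr hy) hb
  have ag : ∀ r b, σ r ∈ Xc φ 0 → σ b = oneE φ 5 → r * b = b * r := by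
    intro r b hr hb
    obtain ⟨C, hC⟩ := hs (oneE φ 2)
    obtain ⟨Dd, hD⟩ := hs (oneE φ 3)
    have hrC : Commute r C := ac (Or.inl rfl) r C hr (hC ▸ oneE_mem φ 2)
    have hrD : Commute r Dd := ac (Or.inr rfl) r Dd hr (hD ▸ oneE_mem φ 3)
    have hcen : ⁅C, Dd⁆⁻¹ * b ∈ Subgroup.center Γ := hc (by
      rw [MonoidHom.mem_ker, map_mul, map_inv, map_commutatorElement, hC, hD, ← g_eq_comm φ hφ, hb,
        inv_mul_cancel])
    rw [← mul_inv_cancel_left ⁅C, Dd⁆ b]
    refine Commute.eq (Commute.mul_right ?_ (Subgroup.mem_center_iff.1 hcen r))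
    rw [commutatorElement_def]
    exact ((hrC.mul_right hrD).mul_right hrC.inv_right).mul_right hrD.inv_right
  -- the lift of the short simple class
  set L := lift σ (Tor φ) (Xc φ 1) with hLdef
  have hGood : Good σ (Tor φ) (Xc φ 1) := good_of_abelian hs hc hH1T
    (fun s hs' => Tor_comm φ hs' hH1T) (norms_Xc φ 1) (fpf 1 (Or.inl rfl))
    (abelian_short φ two_pp hK hφ hs hc 1 (Or.inl rfl))
  have hLX : ∀ l ∈ L, σ l ∈ Xc φ 1 := fun l hl => sigma_mem (norms_Xc φ 1) hl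
  have hLs : ∀ y ∈ Xc φ 1, ∃ l ∈ L, σ l = y := fun y hy =>
    exists_lift hs hH1T (norms_Xc φ 1) (fpf 1 (Or.inl rfl)) hy
  have hLcard : Nat.card L ≤ 8 := by
    refine (card_lift_le hc (norms_Xc φ 1) hGood).trans ((card_Xc_le φ two_pp hK hφ 1).trans ?_)
    rw [ob]; norm_num
  obtain ⟨A', hA'⟩ := hs (oneE φ 0)
  obtain ⟨l₁, hl₁, hl₁σ⟩ := hLs _ (oneE_mem φ 1)
  set κ := ⁅A', l₁ * A' * l₁⁻¹⁆ with hκ
  have hκσ : σ κ = oneE φ 5 := by
    rw [hκ, map_commutatorElement, map_mul, map_mul, map_inv, hA', hl₁σ]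
    exact comm_a φ hK hφ 1 one_ne_zero
  have hAκ : ∀ r, σ r = oneE φ 0 → r * κ = κ * r := fun r hr =>
    ag r κ (hr ▸ oneE_mem φ 0) hκσ
  have hκ2 : κ * κ = 1 := by
    have hA2 : A' * A' ∈ Subgroup.center Γ := hc (by
      rw [MonoidHom.mem_ker, map_mul, hA', long_sq φ hφ oa])
    have h1 : ⁅A' * A', l₁ * A' * l₁⁻¹⁆ = A' * κ * A'⁻¹ * κ := by
      rw [hκ]; simp only [commutatorElement_def]; group
    rw [hAκ A' hA', mul_inv_cancel_right] at h1
    rw [← h1, commutatorElement_eq_one_iff_mul_comm]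
    exact (Subgroup.mem_center_iff.1 hA2 _).symm
  have hfixκ : ∀ (a m : ℤ) (H : Γ), σ H = tz φ two_pp hK hφ a m → H * κ * H⁻¹ = κ := by
    intro a m H hH
    have hzc : ⁅H, κ⁆ ∈ Subgroup.center Γ := SchurTrivial.mem_center_comm hc (by
      rw [hH, hκσ]; exact (cenT a m 5 (Or.inr rfl) _ (oneE_mem φ 5)).symm)
    set z := ⁅H, κ⁆ with hz
    have e : H * κ * H⁻¹ = z * κ := by rw [hz, commutatorElement_def]; group
    have hz2 : z * z = 1 := by
      have : z * κ * (z * κ) = 1 := by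
        rw [← e, show H * κ * H⁻¹ * (H * κ * H⁻¹) = H * (κ * κ) * H⁻¹ by group, hκ2, mul_one,
          mul_inv_cancel]
      calc z * z = z * z * (κ * κ) := by rw [hκ2, mul_one]
        _ = z * (z * κ) * κ := by group
        _ = z * (κ * z) * κ := by rw [Subgroup.mem_center_iff.1 hzc κ]
        _ = z * κ * (z * κ) := by group
        _ = 1 := this
    have hpow : ∀ n : ℕ, H ^ n * κ * (H ^ n)⁻¹ = z ^ n * κ := by
      intro n
      induction n with
      | zero => simp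
      | succ n ih =>
        rw [pow_succ' H n, show H * H ^ n * κ * (H * H ^ n)⁻¹ = H * (H ^ n * κ * (H ^ n)⁻¹) * H⁻¹ by
          group, ih, show H * (z ^ n * κ) * H⁻¹ = H * z ^ n * κ * H⁻¹ by group,
          Subgroup.mem_center_iff.1 (pow_mem hzc n) H,
          show z ^ n * H * κ * H⁻¹ = z ^ n * (H * κ * H⁻¹) by group, e, ← mul_assoc, pow_succ]
    have h7 : H ^ 7 ∈ Subgroup.center Γ := hc (by
      rw [MonoidHom.mem_ker, map_pow, hH, tz_seven φ hK hφ])
    have h := hpow 7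
    rw [← Subgroup.mem_center_iff.1 h7 κ, mul_inv_cancel_right] at h
    have hz7 : z ^ 7 = 1 := right_eq_mul.1 (h : κ = z ^ 7 * κ) |>.trans rfl
    have hz1 : z = 1 := by
      rw [show (7 : ℕ) = 2 * 3 + 1 by norm_num, pow_add, pow_mul, pow_two, hz2, one_pow, one_mul,
        pow_one] at hz7
      exact hz7
    rw [e, hz1, one_mul]
  have hkey : ∀ r l, σ r = oneE φ 0 → l ∈ L → σ l ≠ 1 → ⁅r, l * r * l⁻¹⁆ = κ := by
    intro r l hr hl hne
    obtain ⟨y, hy, hye⟩ := exists_xe φ (hLX l hl)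
    have hy0 : y ≠ 0 := fun e => hne (by rw [hye, xe_congr φ 1 hy (isPar_zero φ _) e, xe_zero])
    obtain ⟨a, m, ham⟩ := exists_scale φ two_pp hK hφ hy0
    obtain ⟨H, hH⟩ := hs (tz φ two_pp hK hφ a m)
    have hHA : σ H * oneE φ 0 * (σ H)⁻¹ = oneE φ 0 := by
      rw [hH, ← cenT a m 0 (Or.inl rfl) _ (oneE_mem φ 0), mul_inv_cancel_right]
    have hHb : σ H * oneE φ 1 * (σ H)⁻¹ = σ l := by
      obtain ⟨h, he⟩ := tz_conj φ two_pp hK hφ 1 a m (isPar_one φ (cls 1))
      rw [hH, hye]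
      exact he.trans (xe_congr φ 1 h hy (by rw [ham, mul_one]))
    rw [← hfixκ a m H hH, hκ, conjugate_commutatorElement]
    refine SchurTrivial.comm_congr hc ?_ ?_
    · rw [map_mul, map_mul, map_inv, hA', hHA, hr]
    · simp only [map_mul, map_inv, hA', hl₁σ, hr]
      calc σ l * oneE φ 0 * (σ l)⁻¹
          = σ H * oneE φ 1 * (σ H)⁻¹ * (σ H * oneE φ 0 * (σ H)⁻¹) * (σ H * oneE φ 1 * (σ H)⁻¹)⁻¹ := by
            rw [hHb, hHA]
        _ = _ := by group
  -- an involution over the long simple element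
  obtain ⟨-, -, w3, -⟩ := word_facts
  obtain ⟨n, hn⟩ := exists_conj φ (i := 0) (j := 5) (L := [1, 3]) (by decide) w3
  have hn1 : n * oneE φ 0 * n⁻¹ = oneE φ 5 :=
    (long_two φ hφ og (hn _ (oneE_mem φ 0))).resolve_left fun e =>
      oneE_ne φ 0 (conj_eq_one_iff.1 e)
  obtain ⟨N, hN⟩ := hs n
  set A := N⁻¹ * κ * N with hAdef
  have hA : σ A = oneE φ 0 := by
    rw [hAdef, map_mul, map_mul, map_inv, hN, hκσ, ← hn1]; group
  have hA2 : A * A = 1 := by
    rw [hAdef, show N⁻¹ * κ * N * (N⁻¹ * κ * N) = N⁻¹ * (κ * κ) * N by group, hκ2, mul_one,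
      inv_mul_cancel]
  -- the subgroup generated by the conjugates of the involution
  let C : Finset Γ → Subgroup Γ := fun S =>
    Subgroup.closure (insert κ ((fun l => l * A * l⁻¹) '' (S : Set Γ)))
  have hκC : ∀ S, κ ∈ C S := fun S => Subgroup.subset_closure (Set.mem_insert _ _)
  have hLκ : ∀ l ∈ L, l * κ = κ * l := fun l hl => (gb κ l (hκσ ▸ oneE_mem φ 5) (hLX l hl)).symm
  have hgenκ : ∀ l ∈ L, l * A * l⁻¹ * κ * (l * A * l⁻¹)⁻¹ = κ := fun l hl => by
    have h1 : l⁻¹ * κ * l = κ := by rw [mul_assoc, ← hLκ l hl, inv_mul_cancel_left]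
    calc l * A * l⁻¹ * κ * (l * A * l⁻¹)⁻¹ = l * (A * (l⁻¹ * κ * l) * A⁻¹) * l⁻¹ := by group
      _ = _ := by rw [h1, hAκ A hA, mul_inv_cancel_right, hLκ l hl, mul_inv_cancel_right]
  have hpair : ∀ l ∈ L, ∀ l' ∈ L, ⁅l * A * l⁻¹, l' * A * l'⁻¹⁆ = 1 ∨
      ⁅l * A * l⁻¹, l' * A * l'⁻¹⁆ = κ := by
    intro l hl l' hl'
    have e : ⁅l * A * l⁻¹, l' * A * l'⁻¹⁆ =
        l * ⁅A, (l⁻¹ * l') * A * (l⁻¹ * l')⁻¹⁆ * l⁻¹ := by
      rw [conjugate_commutatorElement]; congr 1; group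
    rw [e]
    by_cases hll : l⁻¹ * l' = 1
    · left; rw [hll]; simp
    · right
      have hm : l⁻¹ * l' ∈ L := mul_mem (inv_mem hl) hl'
      rw [hkey A _ hA hm fun e' => hll (hGood _ hm e'), hLκ l hl, mul_inv_cancel_right]
  have hcardC : ∀ S : Finset Γ, (∀ l ∈ S, l ∈ L) → Nat.card (C S) ≤ 2 ^ (S.card + 1) := by
    intro S
    induction S using Finset.induction with
    | empty =>
      intro _
      have : C ∅ = Subgroup.zpowers κ := by simp [C, Subgroup.zpowers_eq_closure]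
      rw [this, Nat.card_zpowers, Finset.card_empty, zero_add, pow_one]
      exact Nat.le_of_dvd two_pos (orderOf_dvd_of_pow_eq_one (by rw [pow_two]; exact hκ2))
    | insert x S hx ih =>
      intro hS
      have hxL : x ∈ L := hS x (Finset.mem_insert_self _ _)
      have hSL : ∀ l ∈ S, l ∈ L := fun l hl => hS l (Finset.mem_insert_of_mem hl)
      set g := x * A * x⁻¹ with hg
      have hg2 : g * g = 1 := by
        rw [hg, show x * A * x⁻¹ * (x * A * x⁻¹) = x * (A * A) * x⁻¹ by group, hA2, mul_one,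
          mul_inv_cancel]
      have hle : C (insert x S) ≤ Subgroup.zpowers g ⊔ C S := by
        refine (Subgroup.closure_le _).2 ?_
        rintro _ (rfl | ⟨l, hl, rfl⟩)
        · exact Subgroup.mem_sup_right (hκC S)
        · rcases Finset.mem_insert.1 hl with rfl | hl
          · exact Subgroup.mem_sup_left (Subgroup.mem_zpowers g)
          · exact Subgroup.mem_sup_right (Subgroup.subset_closure (Set.mem_insert_of_mem _
              ⟨l, hl, rfl⟩))
      have hnorm : C S ≤ (C S).comap (MulAut.conj g).toMonoidHom := by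
        refine (Subgroup.closure_le _).2 ?_
        rintro _ (rfl | ⟨l, hl, rfl⟩)
        · show g * κ * g⁻¹ ∈ C S
          rw [hgenκ x hxL]; exact hκC S
        · show g * (l * A * l⁻¹) * g⁻¹ ∈ C S
          rw [show g * (l * A * l⁻¹) * g⁻¹ = ⁅g, l * A * l⁻¹⁆ * (l * A * l⁻¹) by
            rw [commutatorElement_def]; group]
          refine mul_mem ?_ (Subgroup.subset_closure (Set.mem_insert_of_mem _ ⟨l, hl, rfl⟩))
          rcases hpair x hxL l (hSL l hl) with e | e <;> rw [hg, e]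
          exacts [one_mem _, hκC S]
      have hz : ∀ a ∈ Subgroup.zpowers g, ∀ r ∈ C S, a * r * a⁻¹ ∈ C S := by
        intro a ha r hr
        obtain ⟨k, rfl⟩ := Subgroup.mem_zpowers_iff.1 ha
        rcases Int.even_or_odd k with ⟨c, rfl⟩ | ⟨c, rfl⟩
        · rw [zpow_add, ← (Commute.refl g).mul_zpow, hg2, one_zpow]; simpa using hr
        · rw [zpow_add, zpow_mul, zpow_two, hg2, one_zpow, one_mul, zpow_one]; exact hnorm hr
      rw [Finset.card_insert_of_notMem hx, pow_succ' 2 (S.card + 1)]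
      refine (Subgroup.card_le_of_le hle).trans ((card_sup_le hz).trans (Nat.mul_le_mul ?_ (ih hSL)))
      rw [Nat.card_zpowers]
      exact Nat.le_of_dvd two_pos (orderOf_dvd_of_pow_eq_one (by rw [pow_two]; exact hg2))
  set S := (L : Set Γ).toFinite.toFinset with hSdef
  have hScard : S.card ≤ 8 := by
    rwa [hSdef, ← Set.ncard_eq_toFinset_card _, ← Nat.card_coe_set_eq]
  have hSL : ∀ l, l ∈ S ↔ l ∈ L := fun l => Set.Finite.mem_toFinset _
  have hnormL : ∀ a ∈ L, ∀ r ∈ C S, a * r * a⁻¹ ∈ C S := by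
    intro a ha
    have : C S ≤ (C S).comap (MulAut.conj a).toMonoidHom := by
      refine (Subgroup.closure_le _).2 ?_
      rintro _ (rfl | ⟨l, hl, rfl⟩)
      · show a * κ * a⁻¹ ∈ C S
        rw [hLκ a ha, mul_inv_cancel_right]; exact hκC S
      · show a * (l * A * l⁻¹) * a⁻¹ ∈ C S
        rw [show a * (l * A * l⁻¹) * a⁻¹ = a * l * A * (a * l)⁻¹ by group]
        exact Subgroup.subset_closure (Set.mem_insert_of_mem _
          ⟨a * l, (hSL _).2 (mul_mem ha ((hSL l).1 hl)), rfl⟩)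
    exact fun r hr => this hr
  refine ⟨L ⊔ C S, (card_sup_le hnormL).trans ?_, ?_⟩
  · calc Nat.card L * Nat.card (C S) ≤ 8 * 2 ^ (S.card + 1) :=
          Nat.mul_le_mul hLcard (hcardC S fun l hl => (hSL l).1 hl)
      _ ≤ 8 * 2 ^ 9 := Nat.mul_le_mul le_rfl (Nat.pow_le_pow_right two_pos (by omega))
      _ = 2 ^ 12 := by norm_num
  set D0 : Subgroup (Gp φ) := Subgroup.closure ({oneE φ 0, oneE φ 5} ∪ (Xc φ 1 : Set (Gp φ)))
  have hle : D0 ≤ (L ⊔ C S).map σ := by
    refine (Subgroup.closure_le _).2 ?_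
    rintro x ((rfl | rfl) | hx)
    · exact ⟨A, Subgroup.mem_sup_right (Subgroup.subset_closure (Set.mem_insert_of_mem _
        ⟨1, (hSL 1).2 (one_mem L), by simp⟩)), hA⟩
    · exact ⟨κ, Subgroup.mem_sup_right (hκC S), hκσ⟩
    · obtain ⟨l, hl, e⟩ := hLs x hx
      exact ⟨l, Subgroup.mem_sup_left hl, e⟩
  refine le_trans (gen_all φ hK hφ D0 (Subgroup.subset_closure (Or.inl (Or.inl rfl)))
    (fun x hx => Subgroup.subset_closure (Or.inr hx))
    (Subgroup.subset_closure (Or.inl (Or.inr rfl))) ?_) hle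
  intro a m
  have : D0 ≤ D0.comap (MulAut.conj (tz φ two_pp hK hφ a m)).toMonoidHom := by
    refine (Subgroup.closure_le _).2 ?_
    intro x hx
    show tz φ two_pp hK hφ a m * x * (tz φ two_pp hK hφ a m)⁻¹ ∈ D0
    rcases hx with (rfl | rfl) | hx
    · rw [← cenT a m 0 (Or.inl rfl) _ (oneE_mem φ 0), mul_inv_cancel_right]
      exact Subgroup.subset_closure (Or.inl (Or.inl rfl))
    · rw [← cenT a m 5 (Or.inr rfl) _ (oneE_mem φ 5), mul_inv_cancel_right]
      exact Subgroup.subset_closure (Or.inl (Or.inr rfl))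
    · exact Subgroup.subset_closure (Or.inr (norms_Xc φ 1 _ (tz_mem φ two_pp hK hφ a m) _ hx))
  exact fun x hx => this hx

end CfsgLib.D4Schur
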