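import Cfsg.Agent.Lib.D4Schur.Large
import Cfsg.Agent.Lib.D4Schur.Two
import Cfsg.Agent.Lib.Twisted.D4Order

/-!
The Schur multiplier of the twisted groups of type D4 is trivial.
-/

set_option autoImplicit false
set_option linter.unusedSectionVars false

namespace CfsgLib.D4Schur

open Cfsg.Lie CfsgLib.Chev CfsgLib.Chevalley CfsgLib.Twisted CfsgLib.Twisted.D4 CfsgLib.ReeF4Schur

universe u

variable {K : Type*} [Field K] [Fintype K] (φ : K ≃+* K) {q : ℕ} (hq : IsPrimePow q)
  (hK : Fintype.card K = q ^ 3) (hφ : ∀ x, φ x = x ^ q)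
include hq hK hφ

theorem exists_section_all {Γ : Type*} [Group Γ] [Finite Γ] {σ : Γ →* Gp φ}
    (hs : Function.Surjective σ) (hc : σ.ker ≤ Subgroup.center Γ) :
    ∃ V : Subgroup Γ, Nat.card V ≤ q ^ 12 ∧ ⨆ i, Xc φ i ≤ V.map σ := by
  rcases Nat.lt_or_ge q 3 with h | h
  · obtain rfl : q = 2 := by have := hq.two_le; omega
    have : CharP K 2 := charP_of_card_eq_prime_pow (p := 2) (f := 3) hK
    exact exists_section_two φ hK hφ hs hc
  · exact exists_section_large h φ hq hK hφ hs hc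

theorem multiplier : Cfsg.HasCyclicSchurMultiplier (Gp φ) 1 := by
  classical
  have hperf : commutator (Gp φ) = ⊤ := by
    have h := CfsgLib.Twisted.D4.perfect (K := K) hq hK
    rw [twistedD4_eq hK φ hφ] at h
    exact h
  obtain ⟨p, e, hp, he, hpe⟩ := hq
  have hpp : p.Prime := hp.nat_prime
  have : Fact p.Prime := ⟨hpp⟩
  have hq' : IsPrimePow q := ⟨p, e, hp, he, hpe⟩
  have : CharP K p := charP_of_card_eq_prime_pow (p := p) (f := e * 3) (by rw [hK, ← hpe, pow_mul])
  have hG : Nat.card (Gp φ) = q ^ 12 * (q ^ 2 - 1) * (q ^ 6 - 1) * (q ^ 8 + q ^ 4 + 1) := by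
    have h := card_group_twisted (K := K) hq' hK
    rw [twistedD4_eq hK φ hφ] at h
    exact h
  set U : Subgroup (Gp φ) := (chevD4.posUnipotent K).subgroupOf (twistGrp sym_test φ) with hUdef
  have hU : Nat.card U = q ^ 12 := by
    have h := card_unipotent (K := K) hq' hK
    rw [twistedD4_eq hK φ hφ] at h
    rw [hUdef, ← h]
    rw [← Subgroup.inf_subgroupOf_right]
    exact Nat.card_congr (Subgroup.subgroupOfEquivOfLe inf_le_right).toEquiv
  have hUp : IsPGroup p U := IsPGroup.of_card (n := e * 12) (by rw [hU, ← hpe, pow_mul])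
  have hidx : ¬ p ∣ U.index := by
    have h := Subgroup.card_mul_index U
    rw [hU, hG, mul_assoc, mul_assoc] at h
    rw [Nat.eq_of_mul_eq_mul_left (pow_pos hq'.pos 12) h]
    have hpq : p ∣ q := hpe ▸ dvd_pow_self p he.ne'
    have hsub : ∀ k, 0 < k → ¬ p ∣ q ^ k - 1 := fun k hk h => by
      have h1 : p ∣ q ^ k := hpq.trans (dvd_pow_self q hk.ne')
      have h2 := Nat.dvd_sub h1 h
      rw [Nat.sub_sub_self (Nat.one_le_pow _ _ hq'.pos)] at h2
      exact hpp.not_dvd_one h2
    intro h3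
    rcases hpp.dvd_mul.1 h3 with h4 | h4
    · exact hsub 2 (by norm_num) h4
    · rcases hpp.dvd_mul.1 h4 with h5 | h5
      · exact hsub 6 (by norm_num) h5
      · have h6 : p ∣ q ^ 8 + q ^ 4 := Nat.dvd_add (hpq.trans (dvd_pow_self q (by norm_num)))
          (hpq.trans (dvd_pow_self q (by norm_num)))
        exact hpp.not_dvd_one ((Nat.dvd_add_right h6).1 h5)
  refine SchurSylow.hasCyclicSchurMultiplier_one fun Γ _ _ σ hσ => ?_
  obtain ⟨hs, hc, hd⟩ := hσ
  obtain ⟨V, hV, hle⟩ := exists_section_all φ hq' hK hφ hs hc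
  have hno : ¬ p ∣ Nat.card σ.ker := not_dvd_of_section hs hc hd (hUp.toSylow hidx) V
    (show U ≤ _ from (posU_le_sup φ).trans hle)
    (show _ ≤ Nat.card U by rw [hU]; exact hV)
  have hΓ : commutator Γ = ⊤ := by
    refine eq_top_iff.2 fun x _ => ?_
    have hx : σ x ∈ (commutator Γ).map σ := by
      rw [commutator_def, Subgroup.map_commutator, Subgroup.map_top_of_surjective σ hs,
        ← commutator_def, hperf]
      trivial
    obtain ⟨y, hy, e⟩ := hx
    rw [← mul_inv_cancel_left y x]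
    exact mul_mem hy (hd (by rw [MonoidHom.mem_ker, map_mul, map_inv, e, inv_mul_cancel]))
  exact (MonoidHom.ker_eq_bot_iff σ).2 (TwistCover.D4.pprime_injective φ σ hs hc hno hΓ)

end CfsgLib.D4Schur
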