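import Cfsg.Agent.Lib.D4Schur.Comm
import Cfsg.Agent.Lib.ReeF4Schur.Lift
import Cfsg.Agent.Lib.TwistCover.D4
import Cfsg.Agent.Lib.ChevCent.MixedF4

/-!
The six classes of positive roots of the twisted group of type D4, with their torus characters and
commutators.
-/

set_option autoImplicit false
set_option linter.unusedSectionVars false

namespace CfsgLib.D4Schur

open Cfsg.Lie CfsgLib.Chev CfsgLib.Chevalley CfsgLib.Twisted CfsgLib.Twisted.D4 CfsgLib.ReeF4Schur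
open CfsgLib.TwistCover (xSub)
open scoped commutatorElement

/-- The representatives of the classes, by height. -/
def cls : Fin 6 → ℕ := ![14, 12, 15, 17, 22, 23]

/-- Their heights. -/
def ht : Fin 6 → ℤ := ![1, 1, 2, 3, 4, 5]

theorem cls_lt (i : Fin 6) : cls i < chevD4.nroots := by revert i; decide +kernel

theorem cls_mem (i : Fin 6) : cls i ∈ sym.repList := by revert i; decide +kernel

theorem cls_cover : ∀ r ∈ sym.repList, ∃ i, cls i = r := by decide +kernel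

theorem cls_pos (i : Fin 6) : chevD4.nroots / 2 ≤ cls i := (mem_repList (cls_mem i)).2

theorem cls_hgt (i : Fin 6) : hgt chevD4 tb (cls i) = ht i := by
  rw [hgt_eq_hgtC]; revert i; decide +kernel

theorem cls_olen : ∀ i, sym.olen (cls i) = (![1, 3, 3, 3, 1, 1] : Fin 6 → ℕ) i := by decide +kernel

theorem pre_nodes : preNode sym_test (⟨0, by decide⟩ : Fin chevD4.rank) = ⟨3, by decide⟩ ∧
    preNode sym_test (⟨1, by decide⟩ : Fin chevD4.rank) = ⟨1, by decide⟩ := by decide +kernel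

theorem cartan_tab : ∀ i : Fin 6, ∀ j : Fin 4, chevD4.cartan j.1 (cls i) =
    (![![-1, 2, -1, -1], ![0, -1, 0, 2], ![-1, 1, -1, 1], ![-1, 0, 1, 1], ![1, -1, 1, 1],
      ![0, 1, 0, 0]] : Fin 6 → Fin 4 → ℤ) i j := by decide +kernel

variable {K : Type*} [Field K] [Fintype K] (φ : K ≃+* K)

/-- The group. -/
abbrev Gp : Type _ := ↥(twistGrp sym_test φ)

/-- The class subgroups. -/
noncomputable def Xc (i : Fin 6) : Subgroup (Gp φ) :=
  (xSub TwistCover.D4.setup φ (cls_lt i)).subgroupOf (twistGrp sym_test φ)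

/-- The torus. -/
noncomputable def Tor : Subgroup (Gp φ) :=
  (chevD4.diagonalSubgroup K).subgroupOf (twistGrp sym_test φ)

/-- The element of a class. -/
noncomputable def xe (i : Fin 6) (t : K) (ht : IsPar sym φ (cls i) t) : Gp φ :=
  ⟨orbX sym_test φ (cls i) t,
    orbX_mem CfsgLib.Chev.D4.checked sym_test φ sym_nodeTest (cls_lt i) ht⟩

theorem xe_mem (i : Fin 6) (t : K) (ht : IsPar sym φ (cls i) t) : xe φ i t ht ∈ Xc φ i :=
  Subgroup.mem_subgroupOf.2 ⟨t, ht, rfl⟩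

theorem exists_xe {i : Fin 6} {x : Gp φ} (hx : x ∈ Xc φ i) : ∃ t ht, x = xe φ i t ht := by
  obtain ⟨t, ht, e⟩ := Subgroup.mem_subgroupOf.1 hx
  exact ⟨t, ht, Subtype.ext e⟩

theorem xe_mul (i : Fin 6) {t u : K} (ht : IsPar sym φ (cls i) t) (hu : IsPar sym φ (cls i) u)
    (h : IsPar sym φ (cls i) (t + u)) : xe φ i t ht * xe φ i u hu = xe φ i (t + u) h :=
  Subtype.ext (orbX_add CfsgLib.Chev.D4.checked sym_test φ (cls_lt i) t u)

theorem xe_congr (i : Fin 6) {t u : K} (ht : IsPar sym φ (cls i) t) (hu : IsPar sym φ (cls i) u)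
    (e : t = u) : xe φ i t ht = xe φ i u hu := by subst e; rfl

theorem Xc_comm (i : Fin 6) {x y : Gp φ} (hx : x ∈ Xc φ i) (hy : y ∈ Xc φ i) : x * y = y * x := by
  obtain ⟨t, ht, rfl⟩ := exists_xe φ hx
  obtain ⟨u, hu, rfl⟩ := exists_xe φ hy
  apply Subtype.ext
  show orbX sym_test φ _ t * orbX sym_test φ _ u = orbX sym_test φ _ u * orbX sym_test φ _ t
  rw [orbX_add CfsgLib.Chev.D4.checked sym_test φ (cls_lt i),
    orbX_add CfsgLib.Chev.D4.checked sym_test φ (cls_lt i), add_comm]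

theorem Tor_comm {a b : Gp φ} (ha : a ∈ Tor φ) (hb : b ∈ Tor φ) : a * b = b * a := by
  obtain ⟨c, hc⟩ := (mem_diagonal CfsgLib.Chev.D4.checked).1 (Subgroup.mem_subgroupOf.1 ha)
  obtain ⟨c', hc'⟩ := (mem_diagonal CfsgLib.Chev.D4.checked).1 (Subgroup.mem_subgroupOf.1 hb)
  apply Subtype.ext
  show (a : GL chevD4.Idx K) * b = b * a
  rw [← hc, ← hc', ← map_mul, ← map_mul, ← map_mul, ← map_mul, mul_comm]

theorem norms_Xc (i : Fin 6) : Norms (Tor φ) (Xc φ i) := fun h hh _ hx =>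
  TwistCover.diag_conj_xSub TwistCover.D4.setup φ (Subgroup.mem_subgroupOf.1 hh) h.2 (cls_lt i) hx

/-- The parameters of a torus element. -/
noncomputable def cpar (s t : Kˣ) : Fin chevD4.rank → Kˣ :=
  (![Units.map φ.toRingHom.toMonoidHom s, t,
    Units.map φ.toRingHom.toMonoidHom (Units.map φ.toRingHom.toMonoidHom s), s] : Fin 4 → Kˣ)

variable {q : ℕ} (hq : IsPrimePow q) (hK : Fintype.card K = q ^ 3) (hφ : ∀ x, φ x = x ^ q)

section
include hK hφ

theorem cube (x : K) : φ (φ (φ x)) = x := iterate_frob_card hφ hK x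

theorem isPar_three {i : Fin 6} (hi : sym.olen (cls i) = 3) (t : K) : IsPar sym φ (cls i) t := by
  rw [IsPar, hi]; exact cube φ hK hφ t

theorem cpar_fixed {s t : Kˣ} (ht : φ (t : K) = t) : cpar φ s t ∈ fixPar sym_test φ := by
  rw [mem_fixPar]
  funext j
  apply Units.ext
  show φ ((cpar φ s t (preNode sym_test j) : Kˣ) : K) = _
  obtain ⟨j, hj⟩ := j
  match j, hj with
  | 0, _ => rw [pre_nodes.1]; rfl
  | 1, _ => rw [pre_nodes.2]; exact ht
  | 2, _ => rw [pre_facts.1]; rfl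
  | 3, _ => rw [pre_facts.2.1]; exact cube φ hK hφ _
  | n + 4, hn => exact absurd hn (by simp [chevD4])

/-- A torus element. -/
noncomputable def tor (s t : Kˣ) (ht : φ (t : K) = t) : Gp φ :=
  ⟨torus chevD4 tb K (hPar chevD4 K (cpar φ s t)),
    torus_fixPar_mem CfsgLib.Chev.D4.checked sym_test φ orbit_ok sym_nodeTest sym_bnTest
      (cpar_fixed φ hK hφ ht)⟩

theorem tor_mem (s t : Kˣ) (ht : φ (t : K) = t) : tor φ hK hφ s t ht ∈ Tor φ :=
  Subgroup.mem_subgroupOf.2 ((mem_diagonal CfsgLib.Chev.D4.checked).2 ⟨_, rfl⟩)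

omit hK hφ in
/-- The character of a class at a torus element. -/
noncomputable def chiC (i : Fin 6) (s t : Kˣ) : Kˣ :=
  ∏ j : Fin 4, (cpar φ s t j) ^ ((![![-1, 2, -1, -1], ![0, -1, 0, 2], ![-1, 1, -1, 1],
    ![-1, 0, 1, 1], ![1, -1, 1, 1], ![0, 1, 0, 0]] : Fin 6 → Fin 4 → ℤ) i j)

omit hK hφ in
theorem chiC_eq (i : Fin 6) (s t : Kˣ) :
    chi (hPar chevD4 K (cpar φ s t)) (rv chevD4 tb (cls i)) = chiC φ i s t := by
  rw [CfsgLib.ChevCent.chi_hPar CfsgLib.Chev.D4.checked _ (cls_lt i)]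
  exact Finset.prod_congr rfl fun j _ => congrArg (cpar φ s t j ^ ·) (cartan_tab i j)

theorem tor_conj (i : Fin 6) (s t : Kˣ) (ht : φ (t : K) = t) {u : K}
    (hu : IsPar sym φ (cls i) u) : ∃ h, tor φ hK hφ s t ht * xe φ i u hu *
      (tor φ hK hφ s t ht)⁻¹ = xe φ i ((chiC φ i s t : K) * u) h := by
  obtain ⟨h, e⟩ := fixed_orbX_conj CfsgLib.Chev.D4.checked sym_test φ
    (twistGrp_le_fixed CfsgLib.Chev.D4.checked sym_test φ (tor φ hK hφ s t ht).2) (cls_lt i)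
    (cls_lt i) (c := chiC φ i s t) (fun v => by
      rw [← chiC_eq φ i s t]; exact torus_conj_elX CfsgLib.Chev.D4.checked _ (cls_lt i) v) hu
  exact ⟨h, Subtype.ext e⟩

theorem tor_fpf (i : Fin 6) (s t : Kˣ) (ht : φ (t : K) = t) (h : chiC φ i s t ≠ 1) :
    Fpf (tor φ hK hφ s t ht) (Xc φ i) := by
  intro x hx e
  obtain ⟨u, hu, rfl⟩ := exists_xe φ hx
  obtain ⟨h', e'⟩ := tor_conj φ hK hφ i s t ht hu
  rw [e'] at e
  have h1 := orbX_inj CfsgLib.Chev.D4.checked comm_one (TwistSym.htPos orbit_ok) sym_test orbit_ok φ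
    (cls_mem i) (congrArg Subtype.val e)
  have : u = 0 := by
    by_contra hne
    exact h (Units.ext ((mul_eq_right₀ hne).1 h1))
  subst this
  exact Subtype.ext (orbX_zero CfsgLib.Chev.D4.checked sym_test φ (cls_lt i))

theorem tor_centralises (i : Fin 6) (s t : Kˣ) (ht : φ (t : K) = t) (h : chiC φ i s t = 1) :
    ∀ x ∈ Xc φ i, x * tor φ hK hφ s t ht = tor φ hK hφ s t ht * x := by
  intro x hx
  obtain ⟨u, hu, rfl⟩ := exists_xe φ hx
  obtain ⟨h', e'⟩ := tor_conj φ hK hφ i s t ht hu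
  rw [xe_congr φ i h' hu (by rw [h, Units.val_one, one_mul])] at e'
  exact (mul_inv_eq_iff_eq_mul.1 e').symm

end

theorem posU_le_normalises {x y : Gp φ} {h k : ℤ} (h1 : 1 ≤ h) (k1 : 1 ≤ k)
    (hx : (x : GL chevD4.Idx K) ∈ highU chevD4 tb K h)
    (hy : (y : GL chevD4.Idx K) ∈ highU chevD4 tb K k) :
    (⁅x, y⁆ : Gp φ).1 ∈ highU chevD4 tb K (h + k) := by
  rw [show ((⁅x, y⁆ : Gp φ) : GL chevD4.Idx K) = ⁅(x : GL chevD4.Idx K), (y : GL chevD4.Idx K)⁆ from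
    map_commutatorElement (twistGrp sym_test φ).subtype x y]
  exact comm_highU CfsgLib.Chev.D4.checked comm_one (TwistSym.htPos orbit_ok) h1 k1 hx hy

theorem Xc_high {i : Fin 6} {x : Gp φ} (hx : x ∈ Xc φ i) :
    (x : GL chevD4.Idx K) ∈ highU chevD4 tb K (ht i) := by
  obtain ⟨t, ht', rfl⟩ := exists_xe φ hx
  exact orbX_mem_highU CfsgLib.Chev.D4.checked sym_test orbit_ok φ (cls_lt i) (cls_pos i)
    (cls_hgt i).ge t

/-- A term of the filtration is generated by the classes of at least its height. -/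
theorem high_le_sup {h : ℤ} (h1 : 1 ≤ h) {g : Gp φ}
    (hg : (g : GL chevD4.Idx K) ∈ highU chevD4 tb K h) :
    g ∈ ⨆ i, ⨆ (_ : h ≤ ht i), Xc φ i := by
  have h2 := highU_fixed_le_repGen CfsgLib.Chev.D4.checked comm_one sym_test orbit_ok φ h1
    (r₀ := chevD4.nroots) (fun e => lt_irrefl _ (mem_repList e.1).1)
    (Subgroup.mem_inf.2 ⟨hg, twistGrp_le_fixed CfsgLib.Chev.D4.checked sym_test φ g.2⟩)
  have hle : repGen sym_test φ tb h chevD4.nroots ≤
      (⨆ i, ⨆ (_ : h ≤ ht i), Xc φ i).map (twistGrp sym_test φ).subtype := by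
    refine (Subgroup.closure_le _).2 ?_
    rintro _ ⟨r, hr, -, hh, t, ht', rfl⟩
    obtain ⟨i, rfl⟩ := cls_cover r hr
    rw [cls_hgt] at hh
    exact ⟨xe φ i t ht',
      le_iSup₂ (f := fun i (_ : h ≤ ht i) => Xc φ i) i hh (xe_mem φ i t ht'), rfl⟩
  obtain ⟨m, hm, e⟩ := hle h2
  rwa [show g = m from Subtype.ext e.symm]

theorem high_six {g : Gp φ} (hg : (g : GL chevD4.Idx K) ∈ highU chevD4 tb K 6) : g = 1 := by
  have := high_le_sup φ (by norm_num) hg
  rw [show (⨆ i, ⨆ (_ : (6 : ℤ) ≤ ht i), Xc φ i) = ⊥ from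
    iSup₂_eq_bot.2 fun i hi => absurd hi (by revert i; decide)] at this
  exact Subgroup.mem_bot.1 this

theorem comm_of_high {i j : Fin 6} (hij : 6 ≤ ht i + ht j) {x y : Gp φ} (hx : x ∈ Xc φ i)
    (hy : y ∈ Xc φ j) : x * y = y * x := by
  refine commutatorElement_eq_one_iff_mul_comm.1 (high_six φ ?_)
  have h1 : ∀ i, (1 : ℤ) ≤ ht i := by decide
  exact highU_mono CfsgLib.Chev.D4.checked hij
    (posU_le_normalises φ (h1 i) (h1 j) (Xc_high φ hx) (Xc_high φ hy))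

theorem conj_mem_sup {i j : Fin 6} (hij : i < j) {x y : Gp φ} (hx : x ∈ Xc φ i)
    (hy : y ∈ Xc φ j) : x * y * x⁻¹ ∈ ⨆ k, ⨆ (_ : i < k), Xc φ k := by
  have h1 : ∀ i, (1 : ℤ) ≤ ht i := by decide
  have h2 : ∀ i j k : Fin 6, i < j → ht i + ht j ≤ ht k → i < k := by decide
  rw [show x * y * x⁻¹ = ⁅x, y⁆ * y by simp only [commutatorElement_def]; group]
  refine mul_mem ?_ (le_iSup₂ (f := fun k (_ : i < k) => Xc φ k) j hij hy)
  refine (iSup₂_le fun k hk => le_iSup₂ (f := fun k (_ : i < k) => Xc φ k) k (h2 i j k hij hk) :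
    (⨆ k, ⨆ (_ : ht i + ht j ≤ ht k), Xc φ k) ≤ _) (high_le_sup φ ?_ ?_)
  · linarith [h1 i, h1 j]
  · exact posU_le_normalises φ (h1 i) (h1 j) (Xc_high φ hx) (Xc_high φ hy)

theorem posU_le_sup :
    (chevD4.posUnipotent K).subgroupOf (twistGrp sym_test φ) ≤ ⨆ i, Xc φ i := by
  intro g hg
  refine (iSup₂_le fun i _ => le_iSup (Xc φ) i : (⨆ i, ⨆ (_ : (1 : ℤ) ≤ ht i), Xc φ i) ≤ _)
    (high_le_sup φ le_rfl ?_)
  rw [highU_one CfsgLib.Chev.D4.checked (F := K) (TwistSym.htPos orbit_ok)]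
  exact hg

/-- Words carrying classes to the classes of `b` and `g`. -/
theorem word_facts :
    sym.wWord [1] 15 = sym.imgIter 0 12 ∧ sym.wWord [1, 3] 17 = sym.imgIter 1 12 ∧
      sym.wWord [1, 3] 14 = sym.imgIter 0 23 ∧ sym.wWord [1] 22 = sym.imgIter 0 23 := by
  decide +kernel

theorem exists_conj {i j : Fin 6} {L : List ℕ} {k : ℕ} (hL : ∀ l ∈ L, l < chevD4.rank)
    (h : sym.wWord L (cls i) = sym.imgIter k (cls j)) :
    ∃ n : Gp φ, ∀ x ∈ Xc φ i, n * x * n⁻¹ ∈ Xc φ j := by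
  obtain ⟨n, hn, hlt, -, hconj⟩ := word_conj CfsgLib.Chev.D4.checked sym_test φ sym_nodeTest
    sym_bnTest hL (cls_lt i)
  refine ⟨⟨n, hn.2⟩, fun x hx => ?_⟩
  obtain ⟨t, ht', rfl⟩ := exists_xe φ hx
  obtain ⟨u, hu, -, e⟩ := hconj t ht'
  have hW := TwistCover.D4.setup
  have hm : n * orbX sym_test φ (cls i) t * n⁻¹ ∈ xSub hW φ hlt := ⟨u, hu, e⟩
  rw [TwistCover.xSub_congr hW φ hlt (TwistSym.imgIter_lt hW.hS (cls_lt j) k) h,
    TwistCover.xSub_imgIter hW φ (cls_lt j) k] at hm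
  exact Subgroup.mem_subgroupOf.2 hm

include hq hK hφ in
theorem card_Xc_le (i : Fin 6) : Nat.card (Xc φ i) ≤ q ^ sym.olen (cls i) := by
  rw [← card_par hq hK φ hφ (cls i) (cls_mem i)]
  exact Nat.card_le_card_of_surjective
    (fun t : {t : K // IsPar sym φ (cls i) t} => (⟨xe φ i t.1 t.2, xe_mem φ i _ _⟩ : Xc φ i))
    fun x => by
      obtain ⟨t, ht', e⟩ := exists_xe φ x.2
      exact ⟨⟨t, ht'⟩, Subtype.ext e.symm⟩

end CfsgLib.D4Schur
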