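import Cfsg.Agent.Lib.D4Schur.Chars
import Cfsg.Agent.Lib.D4Schur.Lift

/-!
In a central extension of the twisted group of type D4 the preimages of the classes of short roots are
abelian.
-/

set_option autoImplicit false
set_option linter.unusedSectionVars false

namespace CfsgLib.D4Schur

open Cfsg.Lie CfsgLib.Chev CfsgLib.Chevalley CfsgLib.Twisted CfsgLib.Twisted.D4 CfsgLib.ReeF4Schur
open scoped commutatorElement IsMulCommutative

variable {K : Type*} [Field K] [Fintype K] (φ : K ≃+* K) {q : ℕ} (hq : IsPrimePow q)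
  (hK : Fintype.card K = q ^ 3) (hφ : ∀ x, φ x = x ^ q)
  {Γ : Type*} [Group Γ] [Finite Γ] {σ : Γ →* Gp φ} (hs : Function.Surjective σ)
  (hc : σ.ker ≤ Subgroup.center Γ)

theorem cls_olen_one : sym.olen (cls 1) = 3 := by decide +kernel

theorem lift_mul_of_center {A B : Γ} (h : (A * B⁻¹) ∈ Subgroup.center Γ) :
    ∃ z ∈ Subgroup.center Γ, A = B * z :=
  ⟨B⁻¹ * (A * B⁻¹) * B, by rwa [mul_assoc B⁻¹, ← Subgroup.mem_center_iff.1 h B,
    inv_mul_cancel_left], by group⟩

include hq hK hφ hs hc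

/-- The preimage of the short simple class is abelian. -/
theorem abelian_one (a b : Γ) (ha : σ a ∈ Xc φ 1) (hb : σ b ∈ Xc φ 1) : a * b = b * a := by
  classical
  have hpar : ∀ t : K, IsPar sym φ (cls 1) t := isPar_three φ hK hφ cls_olen_one
  choose M hM using fun t : K => hs (xe φ 1 t (hpar t))
  have hMX : ∀ t, σ (M t) ∈ Xc φ 1 := fun t => by rw [hM]; exact xe_mem φ 1 _ _
  have hcomm : ∀ t u, σ (M t) * σ (M u) = σ (M u) * σ (M t) := fun t u =>
    Xc_comm φ 1 (hMX t) (hMX u)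
  let β : K → K → Subgroup.center Γ := fun t u =>
    ⟨⁅M t, M u⁆, SchurTrivial.mem_center_comm hc (hcomm t u)⟩
  have hadd : ∀ t u, σ (M (t + u)) = σ (M t * M u) := fun t u => by
    rw [map_mul, hM, hM, hM, xe_mul φ 1 (hpar t) (hpar u)]
  have hr : ∀ t u v, β t (u + v) = β t u * β t v := fun t u v => Subtype.ext (by
    show ⁅M t, M (u + v)⁆ = ⁅M t, M u⁆ * ⁅M t, M v⁆
    rw [SchurTrivial.comm_congr hc (A' := M t) (B' := M u * M v) rfl (hadd u v)]
    exact SchurTrivial.comm_mul_right hc (hcomm t v))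
  have hl : ∀ t u v, β (t + u) v = β t v * β u v := fun t u v => Subtype.ext (by
    show ⁅M (t + u), M v⁆ = ⁅M t, M v⁆ * ⁅M u, M v⁆
    have h := congrArg Subtype.val (hr v t u)
    change ⁅M v, M (t + u)⁆ = ⁅M v, M t⁆ * ⁅M v, M u⁆ at h
    rw [← commutatorElement_inv (M v) (M (t + u)), h, mul_inv_rev, commutatorElement_inv,
      commutatorElement_inv]
    exact Subgroup.mem_center_iff.1 (β t v).2 _)
  have hinv : ∀ k, k ≠ 0 → ∀ t u, β (k * t) (k * u) = β t u := fun k hk t u => Subtype.ext (by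
    obtain ⟨e, m, hem⟩ := exists_scale φ hq hK hφ hk
    obtain ⟨T, hT⟩ := hs (tz φ hq hK hφ e m)
    have hmove : ∀ w, σ T * σ (M w) = σ (M (k * w)) * σ T := fun w => by
      obtain ⟨h, he⟩ := tz_conj φ hq hK hφ 1 e m (hpar w)
      rw [hT, hM, hM, ← xe_congr φ 1 h (hpar (k * w)) (by rw [hem]), ← he, inv_mul_cancel_right]
    exact SchurTrivial.comm_conj hc (hcomm t u) (hmove t) (hmove u))
  have hF : 4 < Fintype.card K := by
    rw [hK]
    have := Nat.pow_le_pow_left hq.two_le 3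
    omega
  obtain ⟨t, ht, et⟩ := exists_xe φ ha
  obtain ⟨u, hu, eu⟩ := exists_xe φ hb
  rw [← commutatorElement_eq_one_iff_mul_comm,
    SchurTrivial.comm_congr hc (A' := M t) (B' := M u) (by rw [et, hM]) (by rw [eu, hM])]
  exact congrArg Subtype.val (eq_one_of_scale hF β hl hr hinv t u)

/-- The preimages of the three short classes are abelian. -/
theorem abelian_short (i : Fin 6) (hi : i = 1 ∨ i = 2 ∨ i = 3) (a b : Γ) (ha : σ a ∈ Xc φ i)
    (hb : σ b ∈ Xc φ i) : a * b = b * a := by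
  obtain ⟨w1, w2, -, -⟩ := word_facts
  rcases hi with rfl | rfl | rfl
  · exact abelian_one φ hq hK hφ hs hc a b ha hb
  · obtain ⟨n, hn⟩ := exists_conj φ (i := 2) (j := 1) (L := [1]) (by decide) w1
    exact commute_conj hs hc (abelian_one φ hq hK hφ hs hc) hn ha hb
  · obtain ⟨n, hn⟩ := exists_conj φ (i := 3) (j := 1) (L := [1, 3]) (by decide) w2
    exact commute_conj hs hc (abelian_one φ hq hK hφ hs hc) hn ha hb

/-- The two long simple classes are conjugate to the highest: abelian preimages are inherited. -/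
theorem abelian_long (h5 : ∀ a b, σ a ∈ Xc φ 5 → σ b ∈ Xc φ 5 → a * b = b * a) (i : Fin 6)
    (hi : i = 0 ∨ i = 4 ∨ i = 5) (a b : Γ) (ha : σ a ∈ Xc φ i)
    (hb : σ b ∈ Xc φ i) : a * b = b * a := by
  obtain ⟨-, -, w3, w4⟩ := word_facts
  rcases hi with rfl | rfl | rfl
  · obtain ⟨n, hn⟩ := exists_conj φ (i := 0) (j := 5) (L := [1, 3]) (by decide) w3
    exact commute_conj hs hc h5 hn ha hb
  · obtain ⟨n, hn⟩ := exists_conj φ (i := 4) (j := 5) (L := [1]) (by decide) w4
    exact commute_conj hs hc h5 hn ha hb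
  · exact h5 a b ha hb

end CfsgLib.D4Schur
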